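import Groth.Agent.H66.Vec.Gen
import Groth.Agent.H1.Hopf
import Groth.Prelude.Def_Red2

/-! Between affine groups of exponent `p` and their Hopf algebras. -/

set_option autoImplicit false
set_option linter.style.haveILetI false
universe u

open CategoryTheory MonoidalCategory CartesianMonoidalCategory AlgebraicGeometry Opposite
open scoped MonObj GrpObj
open TensorProduct WithConv

namespace Groth.Agent.H66.Vec

noncomputable section

variable {k : Type u} [Field k]

abbrev sp (k : Type u) [Field k] (R : Type u) [CommRing R] [Algebra k R] : Over (Spec (CommRingCat.of k)) :=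
  (Spec (CommRingCat.of R)).asOver (Spec (CommRingCat.of k))

/-- An affine smooth commutative group of exponent `p` in Hopf terms. -/
theorem exists_hopf (p : ℕ) (U : Over (Spec (CommRingCat.of k))) [GrpObj U] [IsAffine U.left] [Smooth U.hom]
    (hcomm : ∀ (X : Over (Spec (CommRingCat.of k))) (g h : X ⟶ U), g * h = h * g)
    (htors : ∀ (X : Over (Spec (CommRingCat.of k))) (g : X ⟶ U), g ^ p = 1) :
    ∃ (A : Type u) (_ : CommRing A) (_ : HopfAlgebra k A) (_ : Algebra.FiniteType k A)
      (_ : Coalgebra.IsCocomm k A) (_ : Algebra.FormallySmooth k A) (e : U ≅ sp k A),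
      IsMonHom e.hom ∧ IsPTorsion p k A := by
  obtain ⟨A, iA, iH, e, he⟩ := H1.Hopf.exists_iso U
  haveI : IsMonHom e.hom := he
  have hhom : (sp k A).hom = e.inv.left ≫ U.hom := (Over.w e.inv).symm
  haveI : IsIso e.inv.left := (Over.forget _).map_isIso e.inv
  haveI hs : Smooth (Spec.map (CommRingCat.ofHom (algebraMap k A))) := by
    show Smooth (sp k A).hom
    rw [hhom]
    infer_instance
  haveI : Algebra.FiniteType k A :=
    H1.Hopf.finiteType_of_locallyOfFiniteType (show LocallyOfFiniteType (Spec.map _) from inferInstance)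
  have hsm : Algebra.Smooth k A := RingHom.smooth_algebraMap.1
    ((HasRingHomProperty.Spec_iff (P := @Smooth)).1 hs)
  haveI : Algebra.FormallySmooth k A := hsm.formallySmooth
  have hmov : ∀ (R : Type u) [CommRing R] [Algebra k R] (x y : WithConv (A →ₐ[k] R)), x * y = y * x := by
    intro R _ _ x y
    apply (Spec.mapMulEquiv (R := k) (S := A) (T := R)).injective
    rw [map_mul, map_mul]
    have h := hcomm _ (Spec.mapMulEquiv x ≫ e.inv) (Spec.mapMulEquiv y ≫ e.inv)
    have h2 := congrArg (fun f => f ≫ e.hom) h
    simp only [MonObj.mul_comp, Category.assoc, Iso.inv_hom_id, Category.comp_id] at h2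
    exact h2
  haveI : Coalgebra.IsCocomm k A := by
    refine ⟨LinearMap.ext fun a => ?_⟩
    let l : WithConv (A →ₐ[k] A ⊗[k] A) := toConv Algebra.TensorProduct.includeLeft
    let r : WithConv (A →ₐ[k] A ⊗[k] A) := toConv Algebra.TensorProduct.includeRight
    have h := congrArg (fun f : WithConv (A →ₐ[k] A ⊗[k] A) => f.ofConv a) (hmov _ l r)
    simp only [AlgHom.convMul_apply, l, r, toConv_ofConv] at h
    have h1 : ∀ z : A ⊗[k] A,
        Algebra.TensorProduct.lift (Algebra.TensorProduct.includeLeft : A →ₐ[k] A ⊗[k] A)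
          Algebra.TensorProduct.includeRight (fun _ _ => Commute.all _ _) z = z ∧
        Algebra.TensorProduct.lift (Algebra.TensorProduct.includeRight : A →ₐ[k] A ⊗[k] A)
          Algebra.TensorProduct.includeLeft (fun _ _ => Commute.all _ _) z = TensorProduct.comm k A A z := by
      intro z
      induction z using TensorProduct.induction_on with
      | zero => simp
      | add p q hp hq => simp [map_add, hp.1, hp.2, hq.1, hq.2]
      | tmul p q => simp
    exact ((h1 _).2.symm.trans (h.symm.trans (h1 _).1))
  refine ⟨A, iA, iH, inferInstance, inferInstance, inferInstance, e, he, fun R _ _ x => ?_⟩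
  apply (Spec.mapMulEquiv (R := k) (S := A) (T := R)).injective
  rw [map_pow, map_one]
  have h2 := congrArg (fun f => f ≫ e.hom) (htors _ (Spec.mapMulEquiv x ≫ e.inv))
  simp only [MonObj.one_comp] at h2
  rw [← h2]
  have hpow : ∀ n : ℕ, ((Spec.mapMulEquiv x ≫ e.inv) ^ n) ≫ e.hom = (Spec.mapMulEquiv x) ^ n := by
    intro n
    induction n with
    | zero => simp [MonObj.one_comp]
    | succ n ih => rw [pow_succ, pow_succ, MonObj.mul_comp, ih]; simp
  exact (hpow p).symm

variable {A B : Type u} [CommRing A] [HopfAlgebra k A] [CommRing B] [HopfAlgebra k B]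

/-- The homomorphism of groups defined by a map of Hopf algebras. -/
def specHom (f : B →ₐc[k] A) : sp k A ⟶ sp k B :=
  ((hopfSpec (CommRingCat.of k)).map (CommHopfAlgCat.ofHom f).op).hom.hom

instance (f : B →ₐc[k] A) : IsMonHom (specHom f) :=
  ((hopfSpec (CommRingCat.of k)).map (CommHopfAlgCat.ofHom f).op).hom.isMonHom_hom

theorem specHom_left (f : B →ₐc[k] A) :
    (specHom f).left = Spec.map (CommRingCat.ofHom (f : B →ₐ[k] A).toRingHom) := rfl

theorem isClosedImmersion_specHom {f : B →ₐc[k] A} (hf : Function.Surjective f) :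
    IsClosedImmersion (specHom f).left := by
  rw [specHom_left]
  exact IsClosedImmersion.spec_of_surjective _ hf

/-- The isomorphism of groups defined by an isomorphism of Hopf algebras. -/
def specIso (f : A ≃ₐc[k] B) : Grp.mk (sp k A) ≅ Grp.mk (sp k B) :=
  (hopfSpec (CommRingCat.of k)).mapIso (CommHopfAlgCat.isoMk f).symm.op

theorem grpIso_of_iso {U V : Over (Spec (CommRingCat.of k))} [GrpObj U] [GrpObj V] (e : U ≅ V) [IsMonHom e.hom] :
    Nonempty (Grp.mk U ≅ Grp.mk V) :=
  ⟨Grp.mkIso e⟩

end

end Groth.Agent.H66.Vec
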