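import Groth.Agent.H66.Vec.Reduce
import Groth.Agent.H66.MultType.Const
import Groth.Agent.H66.Vec.Bridge
import Groth.Agent.Lib.OT67.IdemFibre
import Mathlib

/-! A connected smooth commutative group of exponent `p` over a perfect field is a vector group. -/

set_option autoImplicit false
set_option linter.unusedSectionVars false
set_option linter.style.haveILetI false
universe u

open AlgebraicGeometry CategoryTheory

namespace Groth.Agent.H66.Vec

open TensorProduct WithConv Groth.Agent.H66.Smooth

noncomputable section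

variable {k : Type u} [Field k] {A : Type u} [CommRing A] [HopfAlgebra k A] [Algebra.FiniteType k A]

theorem isDomain_of_noIdem [IsAlgClosed k] [IsReduced A] (h : ∀ e : A, IsIdempotentElem e → e = 0 ∨ e = 1) :
    IsDomain A := by
  haveI : Nontrivial A := (Bialgebra.counitAlgHom k A).toRingHom.domain_nontrivial
  haveI : (RingHom.ker (Bialgebra.counitAlgHom k A)).IsPrime := RingHom.ker_isPrime _
  obtain ⟨P₀, hP₀, hP₀e⟩ := Ideal.exists_minimalPrimes_le (I := (⊥ : Ideal A))
    (J := RingHom.ker (Bialgebra.counitAlgHom k A)) bot_le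
  obtain ⟨ε, hε, hεw⟩ := exists_idem_component (homogeneous_counit (k := k) (A := A)) hP₀
  have hε1 : ε = 1 := (h ε hε).resolve_left fun h0 => by
    have := (hεw _).1 hP₀e
    rw [h0, map_zero] at this
    exact zero_ne_one this
  have hall : ∀ w : A →ₐ[k] k, P₀ ≤ RingHom.ker w := fun w => by
    by_contra hne
    have := (hεw w).2 hne
    rw [hε1, map_one] at this
    exact one_ne_zero this
  have hbot : P₀ = ⊥ := by
    rw [eq_bot_iff]
    intro a ha
    exact (Submodule.mem_bot A).2
      (Lib.Hopf.Points.eq_zero_of_forall_point_eq_zero (k := k) fun g => hall g ha)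
  haveI := hP₀.1.1
  subst hbot
  exact IsDomain.of_bot_isPrime A

theorem isDomain_baseChange [Algebra.FormallySmooth k A] (h : ∀ e : A, IsIdempotentElem e → e = 0 ∨ e = 1)
    (K : Type u) [Field K] [IsAlgClosed K] [Algebra k K] [Algebra.IsAlgebraic k K] : IsDomain (K ⊗[k] A) := by
  haveI : IsReduced (K ⊗[k] A) := isReduced_baseChange K
  exact isDomain_of_noIdem (k := K) (H66.MultType.idem_baseChange_algClosure h (Bialgebra.counitAlgHom k A) K)

variable [Coalgebra.IsCocomm k A] {p : ℕ} [hp : Fact p.Prime] [CharP k p]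

theorem eq_zero_of_oneVar [Algebra.FormallySmooth k A] (h : ∀ e : A, IsIdempotentElem e → e = 0 ∨ e = 1)
    {a : A} (ha : a ∈ primSub k A) {c : ℕ → k} {d : ℕ} (hne : ∃ l, l < d ∧ c l ≠ 0)
    (hrel : ∑ l ∈ Finset.range d, c l • a ^ p ^ l = 0) : a = 0 := by
  classical
  let K := AlgebraicClosure k
  haveI : IsDomain (K ⊗[k] A) := isDomain_baseChange h K
  let P : Polynomial k := ∑ l ∈ Finset.range d, Polynomial.C (c l) * Polynomial.X ^ p ^ l
  have hP : P ≠ 0 := fun h0 => by
    obtain ⟨l, hl, hl'⟩ := hne
    have := congrArg (fun Q => Polynomial.coeff Q (p ^ l)) h0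
    simp only [P, Polynomial.finset_sum_coeff, Polynomial.coeff_C_mul, Polynomial.coeff_X_pow, Polynomial.coeff_zero] at this
    rw [Finset.sum_eq_single l (fun b _ hb => by
      rw [if_neg (fun h => hb (Nat.pow_right_injective hp.out.two_le h).symm), mul_zero])
      (fun h => absurd (Finset.mem_range.2 hl) h)] at this
    simp [hl'] at this
  have hint : IsIntegral K ((1 : K) ⊗ₜ[k] a) := by
    have halg : IsAlgebraic k a := ⟨P, hP, by simpa [P, Algebra.smul_def] using hrel⟩
    have h1 := (isAlgebraic_iff_isIntegral.1 halg).map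
      (Algebra.TensorProduct.includeRight : A →ₐ[k] K ⊗[k] A)
    exact h1.tower_top
  obtain ⟨x, hx⟩ : ((1 : K) ⊗ₜ[k] a) ∈ (algebraMap K (K ⊗[k] A)).range :=
    minpoly.mem_range_of_degree_eq_one K _ (IsAlgClosed.degree_eq_one_of_irreducible K (minpoly.irreducible hint))
  have h2 := congrArg (CoalgebraStruct.counit (R := K)) hx
  rw [counit_eq_zero (mk_mem_primSub ha)] at h2
  rw [Bialgebra.counit_algebraMap] at h2
  rw [h2, map_zero] at hx
  exact Algebra.TensorProduct.includeRight_injective (R := k) (A := K) (B := A) (algebraMap k K).injective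
    (by rw [map_zero]; exact hx.symm)

/-- **Free generators from a space of primitive functions stable by Frobenius.** -/
theorem exists_powIndep_gen [PerfectField k] [Algebra.FormallySmooth k A]
    (h : ∀ e : A, IsIdempotentElem e → e = 0 ∨ e = 1) {S : Submodule k A} (hSP : S ≤ primSub k A)
    (hS : ∀ a ∈ S, ∀ m : ℕ, a ^ p ^ m ∈ S) (hex : ∃ n, ∃ u : Fin n → A, IsGenIn S u) :
    ∃ (n : ℕ) (g : Fin n → A), IsGenIn S g ∧ PowIndep p k g := by
  classical
  obtain ⟨u, hu⟩ := Nat.find_spec hex
  obtain ⟨g, hg, hind | ⟨r, hr⟩⟩ := exists_good_in (p := p) hS hu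
  · exact ⟨_, g, hg, hind⟩
  exfalso
  obtain ⟨i, l, hil⟩ := r.ne
  have hi : 0 < r.d i := by
    by_contra h0
    exact hil (r.hd i l (by omega))
  have honly : ∀ j, j ≠ i → r.d j = 0 := by
    intro j hj
    by_contra hj0
    have hj' : 0 < r.d j := by omega
    haveI : PerfectRing k p := PerfectField.toPerfectRing p
    obtain ⟨t, ht⟩ := (bijective_iterateFrobenius k p (r.d i - 1)).2
      (-(r.c j (r.d j - 1) / r.c i (r.d i - 1)))
    rw [iterateFrobenius_def] at ht
    let a : Fin _ → k := fun m => if m = i then t else if m = j then 1 else 0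
    have ha : a = 0 := hr.2 a (fun m hm => by
        by_cases h1 : m = i
        · exact h1 ▸ hi
        · by_cases h2 : m = j
          · exact h2 ▸ hj'
          · simp [a, h1, h2] at hm)
      (by
        rw [Finset.sum_eq_add i j hj.symm (fun m _ hm => by simp [a, hm.1, hm.2,
          zero_pow (pow_ne_zero _ hp.out.ne_zero)]) (by simp) (by simp)]
        have hne := hr.1 i hi
        simp only [a, if_true, if_neg hj, ht, one_pow]
        field_simp
        ring)
    have := congrFun ha j
    simp [a, hj] at this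
  have hone : g i = 0 := by
    refine eq_zero_of_oneVar (p := p) h (hSP (hg.1 i)) (c := r.c i) (d := r.d i) ⟨l, ?_, hil⟩ ?_
    · by_contra h0; exact hil (r.hd i l (by omega))
    · refine Eq.trans ?_ r.rel
      rw [Finset.sum_eq_single i (fun j _ hj => by simp [honly j hj]) (by simp)]
  obtain ⟨m, hm⟩ : ∃ m, Nat.find hex = m + 1 := ⟨Nat.find hex - 1, by have := i.2; omega⟩
  refine Nat.find_min hex (m := m) (by omega) ⟨fun j => g (Fin.cast hm.symm ((Fin.cast hm i).succAbove j)),
    fun j => hg.1 _, ?_⟩
  rw [eq_top_iff, ← hg.2]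
  refine Algebra.adjoin_le ?_
  rintro _ ⟨q, rfl⟩
  by_cases hq : q = i
  · rw [hq, hone]; exact zero_mem _
  · obtain ⟨j, hj⟩ := Fin.exists_succAbove_eq (x := Fin.cast hm q) (y := Fin.cast hm i)
      (fun e => hq (Fin.cast_injective hm e))
    refine Algebra.subset_adjoin ⟨j, ?_⟩
    exact congrArg g (Fin.ext (by
      have := congrArg Fin.val hj
      simpa using this))

/-- **Vector groups over perfect fields.** -/
theorem exists_bijective_toVec [PerfectField k] [Algebra.FormallySmooth k A] (htor : IsPTorsion p k A)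
    (h : ∀ e : A, IsIdempotentElem e → e = 0 ∨ e = 1) :
    ∃ (n : ℕ) (f : SymmetricAlgebra k (Fin n → k) →ₐc[k] A), Function.Bijective f := by
  obtain ⟨n, g, hg, hind⟩ := exists_powIndep_gen (p := p) h le_rfl (fun _ ha m => pow_mem ha m)
    (let ⟨n, u, hu, htop⟩ := exists_generators (adjoin_primSub_eq_top htor); ⟨n, u, hu, htop⟩)
  refine ⟨n, toVec g hg.1, toVec_injective hg.1 hind, fun a => ?_⟩
  have ha : a ∈ (toVec g hg.1 : SymmetricAlgebra k (Fin n → k) →ₐ[k] A).range := by
    rw [range_toVec, hg.2]
    exact Algebra.mem_top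
  exact ha

/-- A connected space of functions has no nontrivial idempotent. -/
theorem noIdem_of_connectedSpace {U : Over (Spec (CommRingCat.of k))} [ConnectedSpace ↥U.left]
    (e : U ≅ sp k A) : ∀ x : A, IsIdempotentElem x → x = 0 ∨ x = 1 := by
  intro x hx
  haveI : IsIso e.hom.left := (Over.forget _).map_isIso e.hom
  haveI : ConnectedSpace (PrimeSpectrum A) :=
    e.hom.left.homeomorph.surjective.connectedSpace e.hom.left.homeomorph.continuous
  exact Lib.OT67.IdemFibre.eq_zero_or_one hx

end

end Groth.Agent.H66.Vec
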