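import Groth.Agent.H66.Vec.AlgClosed
import Groth.Agent.H66.ConjRat.Pow
import Groth.Agent.Lib.JacCrit.Minimal
import Mathlib

/-! A smooth commutative group of exponent `p` is a closed subgroup of a vector group. -/

set_option autoImplicit false
set_option linter.unusedSectionVars false
set_option linter.style.haveILetI false
universe u

namespace Groth.Agent.H66.Vec

open TensorProduct WithConv Groth.Agent.H66.MultExt Groth.Agent.H66.DimOne

noncomputable section

variable {k : Type u} [Field k] {A : Type u} [CommRing A] [HopfAlgebra k A] [Algebra.FiniteType k A]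

/-- Exponent `p`: every point in a field has order dividing `p`. -/
def IsPTorsion (p : ℕ) (k : Type u) [Field k] (A : Type u) [CommRing A] [HopfAlgebra k A] : Prop :=
  ∀ (R : Type u) [CommRing R] [Algebra k R] (x : Pt k A R), x ^ p = 1

theorem isReduced_baseChange [Algebra.FormallySmooth k A] (K : Type u) [Field K] [Algebra k K] :
    IsReduced (K ⊗[k] A) := by
  haveI : Algebra.FinitePresentation k A := Algebra.FinitePresentation.of_finiteType.1 inferInstance
  haveI : Algebra.Smooth k A := { }
  exact Lib.JacCrit.Minimal.isReduced_of_smooth K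

theorem nsmul_eq_zero_baseChange {p : ℕ} (htor : IsPTorsion p k A) (K : Type u) [Field K] [Algebra k K]
    [Coalgebra.IsCocomm k A] (x : GPt K (K ⊗[k] A)) : p • x = 0 := by
  apply Additive.toMul.injective
  rw [toMul_nsmul, toMul_zero]
  show (Additive.toMul x : Pt K (K ⊗[k] A) K) ^ p = 1
  rw [← (ConjRat.bcPt (k := k) (K := K) (X := A)).apply_symm_apply (Additive.toMul x), ← map_pow, htor, map_one]

variable [Coalgebra.IsCocomm k A]

/-- **Generation by primitive elements.** -/
theorem adjoin_primSub_eq_top [Algebra.FormallySmooth k A] {p : ℕ} [Fact p.Prime] [CharP k p]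
    (htor : IsPTorsion p k A) : Algebra.adjoin k (primSub k A : Set A) = ⊤ := by
  let K := AlgebraicClosure k
  haveI : CharP K p := charP_of_injective_algebraMap (algebraMap k K).injective p
  haveI : IsReduced (K ⊗[k] A) := isReduced_baseChange K
  exact adjoin_eq_top_of_baseChange (K := K)
    (adjoin_primSub_eq_top_of_algClosed (p := p) (nsmul_eq_zero_baseChange htor K))

/-- **Embedding in a vector group.** -/
theorem exists_surjective_toVec [Algebra.FormallySmooth k A] {p : ℕ} [Fact p.Prime] [CharP k p]
    (htor : IsPTorsion p k A) :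
    ∃ (n : ℕ) (f : SymmetricAlgebra k (Fin n → k) →ₐc[k] A), Function.Surjective f := by
  obtain ⟨n, u, hu, htop⟩ := exists_generators (adjoin_primSub_eq_top htor)
  refine ⟨n, toVec u hu, fun a => ?_⟩
  have ha : a ∈ (toVec u hu : SymmetricAlgebra k (Fin n → k) →ₐ[k] A).range := by
    rw [range_toVec, htop]
    exact Algebra.mem_top
  exact ha

end

end Groth.Agent.H66.Vec
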