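import Groth.Prelude.Def_Red2
import Groth.Agent.H66.Tame
import Mathlib

/-! Primitive elements of a Hopf algebra: the homomorphisms to the additive group. -/

set_option autoImplicit false
set_option linter.unusedSectionVars false
universe u

namespace Groth.Agent.H66.Vec

open TensorProduct

noncomputable section

variable (k : Type u) [Field k] (A : Type u) [CommRing A] [HopfAlgebra k A]

/-- The defect of being primitive. -/
def primDefect : A →ₗ[k] A ⊗[k] A :=
  CoalgebraStruct.comul - (TensorProduct.mk k A A).flip 1 - TensorProduct.mk k A A 1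

/-- The primitive elements. -/
def primSub : Submodule k A := LinearMap.ker (primDefect k A)

variable {k A}

theorem mem_primSub {a : A} :
    a ∈ primSub k A ↔ CoalgebraStruct.comul (R := k) a = a ⊗ₜ[k] (1 : A) + (1 : A) ⊗ₜ[k] a := by
  rw [primSub, LinearMap.mem_ker]
  simp [primDefect, sub_sub, sub_eq_zero]

theorem counit_eq_zero {a : A} (ha : a ∈ primSub k A) : CoalgebraStruct.counit (R := k) a = 0 := by
  have h := congrArg (fun z : A ⊗[k] A => CoalgebraStruct.counit (R := k) (A := A) (TensorProduct.lid k A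
    (LinearMap.rTensor A CoalgebraStruct.counit z))) (mem_primSub.1 ha)
  simp only [Coalgebra.rTensor_counit_comul, TensorProduct.lid_tmul, one_smul, map_add,
    LinearMap.rTensor_tmul, map_smul, smul_eq_mul, Bialgebra.counit_one] at h
  simpa using h

theorem pow_mem {p : ℕ} [Fact p.Prime] [CharP k p] {a : A} (ha : a ∈ primSub k A) (n : ℕ) :
    a ^ p ^ n ∈ primSub k A := by
  rcases subsingleton_or_nontrivial A with h | h
  · rw [mem_primSub]; exact Subsingleton.elim _ _
  haveI : Nontrivial (A ⊗[k] A) := inferInstance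
  haveI : CharP (A ⊗[k] A) p := charP_of_injective_algebraMap (algebraMap k (A ⊗[k] A)).injective p
  rw [mem_primSub, show CoalgebraStruct.comul (R := k) (a ^ p ^ n) = Bialgebra.comulAlgHom k A (a ^ p ^ n) from rfl,
    map_pow, show Bialgebra.comulAlgHom k A a = CoalgebraStruct.comul (R := k) a from rfl, mem_primSub.1 ha,
    add_pow_char_pow]
  simp [Algebra.TensorProduct.tmul_pow]

variable {B : Type u} [CommRing B] [HopfAlgebra k B]

theorem map_mem (f : A →ₐc[k] B) {a : A} (ha : a ∈ primSub k A) : f a ∈ primSub k B := by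
  rw [mem_primSub, ← CoalgHomClass.map_comp_comul_apply, mem_primSub.1 ha]
  simp [map_one]

theorem of_map_mem (f : A →ₐc[k] B) (hf : Function.Injective f) {a : A} (ha : f a ∈ primSub k B) :
    a ∈ primSub k A := by
  rw [mem_primSub]
  apply TensorProduct.map_injective_of_flat_flat (f : A →ₗ[k] B) (f : A →ₗ[k] B) hf hf
  refine (CoalgHomClass.map_comp_comul_apply f a).trans ?_
  rw [mem_primSub.1 ha]
  simp [map_one]

variable {n : ℕ}

/-- The homomorphism to a vector group given by primitive elements. -/
def toVec (u : Fin n → A) (hu : ∀ i, u i ∈ primSub k A) : SymmetricAlgebra k (Fin n → k) →ₐc[k] A :=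
  BialgHom.ofAlgHom (SymmetricAlgebra.lift (Fintype.linearCombination k u))
    (SymmetricAlgebra.algHom_ext ((Pi.basisFun k (Fin n)).ext fun i => by
      simp [counit_eq_zero (hu i), Pi.basisFun_apply, SymmetricAlgebra.algebraMapInv]))
    (SymmetricAlgebra.algHom_ext ((Pi.basisFun k (Fin n)).ext fun i => by
      simp [mem_primSub.1 (hu i), Pi.basisFun_apply]))

theorem toVec_ι (u : Fin n → A) (hu : ∀ i, u i ∈ primSub k A) (i : Fin n) :
    toVec u hu (SymmetricAlgebra.ι k (Fin n → k) (Pi.single i 1)) = u i := by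
  simp [toVec]

theorem range_toVec (u : Fin n → A) (hu : ∀ i, u i ∈ primSub k A) :
    (toVec u hu : SymmetricAlgebra k (Fin n → k) →ₐ[k] A).range = Algebra.adjoin k (Set.range u) := by
  refine le_antisymm ?_ (Algebra.adjoin_le ?_)
  · intro x hx
    obtain ⟨z, rfl⟩ := hx
    induction z using SymmetricAlgebra.induction with
    | algebraMap r =>
      exact ((toVec u hu : SymmetricAlgebra k (Fin n → k) →ₐ[k] A).commutes r).symm ▸ Subalgebra.algebraMap_mem _ r
    | ι v =>
      show (toVec u hu) (SymmetricAlgebra.ι k (Fin n → k) v) ∈ _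
      rw [show (toVec u hu) (SymmetricAlgebra.ι k (Fin n → k) v) =
        SymmetricAlgebra.lift (Fintype.linearCombination k u) (SymmetricAlgebra.ι k (Fin n → k) v) by simp [toVec]]
      rw [SymmetricAlgebra.lift_ι_apply, Fintype.linearCombination_apply]
      exact Subalgebra.sum_mem _ fun i _ => Subalgebra.smul_mem _ (Algebra.subset_adjoin (Set.mem_range_self i)) _
    | mul a b ha hb => rw [map_mul]; exact mul_mem ha hb
    | add a b ha hb => rw [map_add]; exact add_mem ha hb
  · rintro _ ⟨i, rfl⟩
    exact ⟨SymmetricAlgebra.ι k (Fin n → k) (Pi.single i 1), toVec_ι u hu i⟩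

theorem exists_generators [Algebra.FiniteType k A] (h : Algebra.adjoin k (primSub k A : Set A) = ⊤) :
    ∃ (n : ℕ) (u : Fin n → A), (∀ i, u i ∈ primSub k A) ∧ Algebra.adjoin k (Set.range u) = ⊤ := by
  classical
  obtain ⟨S, hS⟩ := (Algebra.FiniteType.out : (⊤ : Subalgebra k A).FG)
  have hex : ∀ a : A, ∃ T : Finset A, (T : Set A) ⊆ primSub k A ∧ a ∈ Algebra.adjoin k (T : Set A) := by
    intro a
    have ha : a ∈ Algebra.adjoin k (primSub k A : Set A) := h ▸ Algebra.mem_top
    induction ha using Algebra.adjoin_induction with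
    | mem x hx => exact ⟨{x}, by simpa using hx, Algebra.subset_adjoin (by simp)⟩
    | algebraMap r => exact ⟨∅, by simp, Subalgebra.algebraMap_mem _ r⟩
    | add x y _ _ hx hy =>
      obtain ⟨T, hT, hx⟩ := hx; obtain ⟨T', hT', hy⟩ := hy
      exact ⟨T ∪ T', by simp [hT, hT'], add_mem (Algebra.adjoin_mono (by simp) hx) (Algebra.adjoin_mono (by simp) hy)⟩
    | mul x y _ _ hx hy =>
      obtain ⟨T, hT, hx⟩ := hx; obtain ⟨T', hT', hy⟩ := hy
      exact ⟨T ∪ T', by simp [hT, hT'], mul_mem (Algebra.adjoin_mono (by simp) hx) (Algebra.adjoin_mono (by simp) hy)⟩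
  choose T hT hTm using hex
  let U : Finset A := S.biUnion T
  refine ⟨U.card, fun i => (U.equivFin.symm i : A), fun i => ?_, ?_⟩
  · obtain ⟨s, hs, hm⟩ := Finset.mem_biUnion.1 (U.equivFin.symm i).2
    exact hT s hm
  · rw [eq_top_iff, ← hS]
    refine Algebra.adjoin_le fun a ha => Algebra.adjoin_mono ?_ (hTm a)
    intro x hx
    exact ⟨U.equivFin ⟨x, Finset.mem_biUnion.2 ⟨a, ha, hx⟩⟩, by simp⟩

section Descent

variable {K : Type u} [Field K] [Algebra k K]

theorem primSub_baseChange_le :
    primSub K (K ⊗[k] A) ≤ Submodule.span K ((fun a : A => (1 : K) ⊗ₜ[k] a) '' (primSub k A : Set A)) := by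
  intro z hz
  have key : ∀ w : K ⊗[k] A, primDefect K (K ⊗[k] A) w =
      AlgebraTensorModule.distribBaseChange k K A A ((primDefect k A).baseChange K w) := by
    intro w
    induction w using TensorProduct.induction_on with
    | zero => simp
    | add x y hx hy => simp only [map_add, hx, hy]
    | tmul c a =>
      simp only [primDefect, LinearMap.sub_apply, LinearMap.baseChange_tmul, TensorProduct.tmul_sub, map_sub,
        LinearMap.flip_apply, TensorProduct.mk_apply, H66.Tame.comul_baseChange]
      have e1 : AlgebraTensorModule.distribBaseChange k K A A (c ⊗ₜ[k] (a ⊗ₜ[k] (1 : A))) =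
          (c ⊗ₜ[k] a) ⊗ₜ[K] (1 : K ⊗[k] A) := by
        rw [AlgebraTensorModule.distribBaseChange_tmul]; rfl
      have e2 : AlgebraTensorModule.distribBaseChange k K A A (c ⊗ₜ[k] ((1 : A) ⊗ₜ[k] a)) =
          (1 : K ⊗[k] A) ⊗ₜ[K] (c ⊗ₜ[k] a) := by
        rw [AlgebraTensorModule.distribBaseChange_tmul]
        calc (c ⊗ₜ[k] (1 : A)) ⊗ₜ[K] ((1 : K) ⊗ₜ[k] a) = (c • ((1 : K) ⊗ₜ[k] (1 : A))) ⊗ₜ[K] ((1 : K) ⊗ₜ[k] a) := by
              rw [TensorProduct.smul_tmul', smul_eq_mul, mul_one]
          _ = _ := by rw [TensorProduct.smul_tmul, TensorProduct.smul_tmul', smul_eq_mul, mul_one]; rfl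
      rw [e1, e2]
  have h1 : (primDefect k A).baseChange K z = 0 := by
    apply (AlgebraTensorModule.distribBaseChange k K A A).injective
    rw [map_zero, ← key]
    exact hz
  have h2 : z ∈ LinearMap.ker (AlgebraTensorModule.lTensor K K (primDefect k A)) := h1
  rw [Module.Flat.ker_lTensor_eq] at h2
  obtain ⟨w, rfl⟩ := h2
  clear h1 hz key
  induction w using TensorProduct.induction_on with
  | zero => simp
  | add x y hx hy => rw [map_add]; exact add_mem hx hy
  | tmul c a =>
    rw [AlgebraTensorModule.lTensor_tmul, Submodule.subtype_apply, show c ⊗ₜ[k] (a : A) = c • ((1 : K) ⊗ₜ[k] (a : A)) by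
      rw [TensorProduct.smul_tmul', smul_eq_mul, mul_one]]
    exact Submodule.smul_mem _ _ (Submodule.subset_span ⟨a, a.2, rfl⟩)

theorem mk_mem_primSub {a : A} (ha : a ∈ primSub k A) : ((1 : K) ⊗ₜ[k] a) ∈ primSub K (K ⊗[k] A) := by
  rw [mem_primSub, H66.Tame.comul_baseChange, LinearMap.baseChange_tmul, mem_primSub.1 ha, TensorProduct.tmul_add,
    map_add, AlgebraTensorModule.distribBaseChange_tmul, AlgebraTensorModule.distribBaseChange_tmul]
  rfl

/-- Generation by primitive elements descends along extensions of the field. -/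
theorem adjoin_eq_top_of_baseChange (h : Algebra.adjoin K (primSub K (K ⊗[k] A) : Set (K ⊗[k] A)) = ⊤) :
    Algebra.adjoin k (primSub k A : Set A) = ⊤ := by
  set S := Algebra.adjoin k (primSub k A : Set A)
  have hle : ∀ z : K ⊗[k] A, z ∈ LinearMap.range ((Subalgebra.toSubmodule S).subtype.baseChange K) := by
    have h' : Algebra.adjoin K (primSub K (K ⊗[k] A) : Set (K ⊗[k] A)) ≤
        (Algebra.TensorProduct.map (AlgHom.id K K) S.val).range := by
      refine Algebra.adjoin_le fun z hz => ?_
      have := primSub_baseChange_le hz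
      clear hz
      induction this using Submodule.span_induction with
      | mem x hx =>
        obtain ⟨a, ha, rfl⟩ := hx
        exact ⟨(1 : K) ⊗ₜ[k] (⟨a, Algebra.subset_adjoin ha⟩ : S), rfl⟩
      | zero => exact zero_mem _
      | add x y _ _ hx hy => exact add_mem hx hy
      | smul c x _ hx => exact Subalgebra.smul_mem _ hx c
    intro z
    obtain ⟨w, rfl⟩ := h' (h.symm ▸ Algebra.mem_top : z ∈ _)
    exact ⟨w, by
      induction w using TensorProduct.induction_on with
      | zero => simp
      | add x y hx hy => simp only [map_add, hx, hy]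
      | tmul c a => rfl⟩
  have hsurj : Function.Surjective ((Subalgebra.toSubmodule S).subtype.lTensor K) := hle
  have : Function.Surjective (Subalgebra.toSubmodule S).subtype :=
    (Module.FaithfullyFlat.lTensor_surjective_iff_surjective k K _).1 hsurj
  rw [Algebra.eq_top_iff]
  intro a
  obtain ⟨b, rfl⟩ := this a
  exact b.2

end Descent

end

end Groth.Agent.H66.Vec
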