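import Groth.Agent.H66.Smooth.Homog
import Mathlib

/-! The components of a reduced homogeneous scheme over an algebraically closed field are disjoint. -/

set_option autoImplicit false
set_option linter.unusedSectionVars false
universe u

namespace Groth.Agent.H66.Vec

open Groth.Agent.H66.Smooth

variable {k : Type u} [Field k] [IsAlgClosed k] {B : Type u} [CommRing B] [Algebra k B] [Algebra.FiniteType k B]
  [IsReduced B] {e : B →ₐ[k] k}

theorem minimalPrimes_subsingleton_le_ker (he : Homogeneous e) (w : B →ₐ[k] k) {P Q : Ideal B}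
    (hP : P ∈ minimalPrimes B) (hQ : Q ∈ minimalPrimes B) (hPw : P ≤ RingHom.ker w) (hQw : Q ≤ RingHom.ker w) :
    P = Q := by
  classical
  haveI : IsNoetherianRing B := Algebra.FiniteType.isNoetherianRing k B
  haveI : Nontrivial B := e.toRingHom.domain_nontrivial
  obtain ⟨P₀, hP₀⟩ := Ideal.nonempty_minimalPrimes (I := (⊥ : Ideal B)) bot_ne_top
  haveI : P₀.IsPrime := hP₀.1.1
  let others := (minimalPrimes.finite_of_isNoetherianRing B).toFinset.filter fun R => R ≠ P₀
  have hf : ∃ f : B, f ∉ P₀ ∧ ∀ R ∈ others, f ∈ R := by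
    have hex : ∀ R ∈ others, ∃ x, x ∈ R ∧ x ∉ P₀ := by
      intro R hR
      simp only [others, Finset.mem_filter, Set.Finite.mem_toFinset] at hR
      exact SetLike.not_le_iff_exists.1 fun hle => hR.2 (le_antisymm hle (hP₀.2 hR.1.1 hle))
    choose x hx hx' using hex
    exact ⟨∏ R ∈ others.attach, x R.1 R.2, fun h => by
        obtain ⟨R, -, hR⟩ := (Ideal.IsPrime.prod_mem_iff).1 h
        exact hx' _ _ hR,
      fun R hR => Ideal.mem_of_dvd _ (Finset.dvd_prod_of_mem _ (Finset.mem_attach others ⟨R, hR⟩)) (hx R hR)⟩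
  obtain ⟨f, hf0, hfR⟩ := hf
  haveI : IsReduced (B ⧸ P₀) := inferInstance
  haveI : Algebra.FiniteType k (B ⧸ P₀) :=
    Algebra.FiniteType.of_surjective (Ideal.Quotient.mkₐ k P₀) Ideal.Quotient.mk_surjective
  obtain ⟨z, hz⟩ := exists_pt_ne_zero (k := k) (B := B ⧸ P₀) (f := Ideal.Quotient.mk P₀ f)
    (fun h => hf0 (Ideal.Quotient.eq_zero_iff_mem.1 h))
  let z' : B →ₐ[k] k := z.comp (Ideal.Quotient.mkₐ k P₀)
  have huniq : ∀ R ∈ minimalPrimes B, R ≤ RingHom.ker z' → R = P₀ := by
    intro R hR hle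
    by_contra hne
    exact hz (hle (hfR R (by simp [others, hR, hne])))
  obtain ⟨σ₁, h₁⟩ := he z'
  obtain ⟨σ₂, h₂⟩ := he w
  let σ : B ≃ₐ[k] B := σ₁.trans σ₂.symm
  have hσ : ∀ b, w (σ b) = z' b := fun b => by
    rw [← h₁, ← h₂]
    simp [σ]
  have key : ∀ R ∈ minimalPrimes B, R ≤ RingHom.ker w → R.comap (σ : B →+* B) = P₀ := by
    intro R hR hle
    refine huniq _ ?_ fun b hb => ?_
    · refine ⟨⟨Ideal.IsPrime.comap (σ : B →+* B) (hK := hR.1.1), bot_le⟩, fun S hS hle' => ?_⟩
      intro b hb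
      have h1 : R ≤ S.comap (σ.symm : B →+* B) := hR.2 ⟨Ideal.IsPrime.comap _ (hK := hS.1), bot_le⟩
        fun c hc => by
          have := hle' (show σ.symm c ∈ S from hc)
          simpa using this
      simpa using h1 (show σ b ∈ R from hb)
    · have : w (σ b) = 0 := hle hb
      rwa [hσ] at this
  have h := (key P hP hPw).trans (key Q hQ hQw).symm
  exact Ideal.comap_injective_of_surjective (σ : B →+* B) σ.surjective h

/-- Distinct minimal primes are coprime. -/
theorem isCoprime_minimalPrimes (he : Homogeneous e) {P Q : Ideal B}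
    (hP : P ∈ minimalPrimes B) (hQ : Q ∈ minimalPrimes B) (hne : P ≠ Q) : IsCoprime P Q := by
  rw [Ideal.isCoprime_iff_sup_eq]
  by_contra h
  obtain ⟨m, hm, hle⟩ := Ideal.exists_le_maximal _ h
  obtain ⟨w, hw⟩ := exists_ker_eq (k := k) hm
  exact hne (minimalPrimes_subsingleton_le_ker he w hP hQ (hw ▸ le_sup_left.trans hle) (hw ▸ le_sup_right.trans hle))

/-- Each component is cut out by an idempotent. -/
theorem exists_idem_component (he : Homogeneous e) {P : Ideal B} (hP : P ∈ minimalPrimes B) :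
    ∃ ε : B, IsIdempotentElem ε ∧ ∀ w : B →ₐ[k] k, (P ≤ RingHom.ker w → w ε = 1) ∧ (¬ P ≤ RingHom.ker w → w ε = 0) := by
  classical
  haveI : IsNoetherianRing B := Algebra.FiniteType.isNoetherianRing k B
  haveI := (minimalPrimes.finite_of_isNoetherianRing B).to_subtype
  let I : {R : Ideal B // R ∈ minimalPrimes B} → Ideal B := Subtype.val
  have hpair : Pairwise (Function.onFun IsCoprime I) := fun R S h =>
    isCoprime_minimalPrimes he R.2 S.2 fun hRS => h (Subtype.ext hRS)
  have hinf : ⨅ R, I R = ⊥ := by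
    rw [eq_bot_iff]
    intro b hb
    have : b ∈ nilradical B := by
      rw [nilradical_eq_sInf, Submodule.mem_sInf]
      intro S hS
      change Ideal B at S
      haveI : Ideal.IsPrime S := hS
      obtain ⟨R, hR, hRS⟩ := Ideal.exists_minimalPrimes_le (I := (⊥ : Ideal B)) (J := S) bot_le
      exact hRS ((Ideal.mem_iInf.1 hb) ⟨R, hR⟩)
    exact (Submodule.mem_bot B).2 (mem_nilradical.1 this).eq_zero
  let E := Ideal.quotientInfRingEquivPiQuotient I hpair
  let ε₀ := E.symm (Pi.single ⟨P, hP⟩ 1)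
  obtain ⟨ε, hε⟩ := Ideal.Quotient.mk_surjective ε₀
  have hval : ∀ R : {R : Ideal B // R ∈ minimalPrimes B},
      Ideal.Quotient.mk (I R) ε = (Pi.single (M := fun R => B ⧸ I R) ⟨P, hP⟩ 1 : ∀ R, B ⧸ I R) R := by
    intro R
    have : E (Ideal.Quotient.mk _ ε) R = Ideal.Quotient.mk (I R) ε := rfl
    rw [← this, hε, E.apply_symm_apply]
  refine ⟨ε, ?_, fun w => ?_⟩
  · have h : ε * ε - ε ∈ ⨅ R, I R := Ideal.mem_iInf.2 fun R => by
      rw [← Ideal.Quotient.eq_zero_iff_mem, map_sub, map_mul, hval R]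
      by_cases hR : R = ⟨P, hP⟩
      · subst hR; simp
      · simp [hR]
    rw [hinf, Submodule.mem_bot, sub_eq_zero] at h
    exact h
  · haveI : (RingHom.ker w).IsPrime := RingHom.ker_isPrime _
    obtain ⟨R, hR, hRw⟩ := Ideal.exists_minimalPrimes_le (I := (⊥ : Ideal B)) (J := RingHom.ker w) bot_le
    refine ⟨fun hle => ?_, fun hle => ?_⟩
    · have h := hval ⟨P, hP⟩
      rw [Pi.single_eq_same, ← map_one (Ideal.Quotient.mk (I ⟨P, hP⟩)), Ideal.Quotient.eq] at h
      have := hle h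
      rwa [RingHom.mem_ker, map_sub, map_one, sub_eq_zero] at this
    · have hne : (⟨R, hR⟩ : {R : Ideal B // R ∈ minimalPrimes B}) ≠ ⟨P, hP⟩ := fun h => hle (by
        have e : R = P := congrArg Subtype.val h
        exact e ▸ hRw)
      have h := hval ⟨R, hR⟩
      rw [Pi.single_eq_of_ne hne, Ideal.Quotient.eq_zero_iff_mem] at h
      exact RingHom.mem_ker.1 (hRw h)

end Groth.Agent.H66.Vec
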