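import Groth.Agent.Lib.WittU.UnipProd
import Groth.Agent.Lib.WittU.UnipStruct
import Groth.Agent.Lib.WittU.Basic
import Mathlib

/-! Regular functions on a connected group of points of exponent `p` come from additive ones. -/

set_option autoImplicit false
set_option linter.unusedSectionVars false
universe u

namespace Groth.Agent.H66.Vec

open Groth.Agent.Lib.WittU Reg UnipChar UnipProd Twr Witt WittReg WittGrp

noncomputable section

variable {k : Type u} [Field k]

/-- The additive regular functions. -/
def addReg (k : Type u) [Field k] (X : Type u) [AddCommGroup X] [RegSpace k X] : Set (X → k) :=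
  {u | IsReg u ∧ ∀ x y, u (x + y) = u x + u y}

theorem comp_mem_adjoin_addReg {X Y : Type u} [AddCommGroup X] [RegSpace k X] [AddCommGroup Y] [RegSpace k Y]
    {q : X →+ Y} (hq : IsRegMap k q) {f : Y → k} (hf : f ∈ Algebra.adjoin k (addReg k Y)) :
    (fun x => f (q x)) ∈ Algebra.adjoin k (addReg k X) := by
  induction hf using Algebra.adjoin_induction with
  | mem u hu =>
    exact Algebra.subset_adjoin ⟨hu.1.comp hq, fun x y => (congrArg u (map_add q x y)).trans (hu.2 _ _)⟩
  | algebraMap r => exact Subalgebra.algebraMap_mem _ r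
  | add a b _ _ ha hb => exact add_mem ha hb
  | mul a b _ _ ha hb => exact mul_mem ha hb

variable {p : ℕ} [hp : Fact p.Prime] [CharP k p]

theorem coeff_eq_zero_of_nsmul {n : ℕ} {x : TruncatedWittVector p n k} (hx : p • x = 0) (i : Fin n)
    (hi : (i : ℕ) + 1 < n) : x.coeff i = 0 := by
  rw [← Basic.truncate_shift_frob (CharP.cast_eq_zero k p) x] at hx
  have h := congrArg (fun z => TruncatedWittVector.coeff (⟨i + 1, hi⟩ : Fin n) z) hx
  simp only [TruncatedWittVector.coeff_truncate, TruncatedWittVector.coeff_zero, coeff_shift] at h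
  rw [dif_pos (by simp)] at h
  simp only [Fin.val_castLE, Nat.add_sub_cancel_left, Nat.add_sub_cancel] at h
  rw [show (frob p n (CharP.cast_eq_zero k p) x).coeff i = x.coeff i ^ p from coeff_frob _ _ _ _ _] at h
  exact eq_zero_of_pow_eq_zero h

variable [IsAlgClosed k] {X : Type u} [AddCommGroup X] [RegSpace k X] [RegAddGroup k X]

/-- On a connected group of exponent `p` the additive regular functions generate. -/
theorem adjoin_addReg_of_isDomain [IsDomain (Fn k X)] [Algebra.FiniteType k (Fn k X)]
    (hpt : ∀ φ : Fn k X →ₐ[k] k, ∃ x, ∀ f, φ f = (f : X → k) x)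
    (hsep : ∀ x y : X, (∀ f : Fn k X, (f : X → k) x = (f : X → k) y) → x = y)
    (htor : ∀ x : X, p • x = 0) {f : X → k} (hf : IsReg f) : f ∈ Algebra.adjoin k (addReg k X) := by
  have hchar : ∀ χ : X → k, wt χ ≠ ⊥ → χ = 1 := by
    intro χ hχ
    obtain ⟨c, -, -, h0, hadd⟩ := exists_eigen hχ
    funext y
    have hpow : ∀ m : ℕ, χ (m • y) = χ y ^ m := by
      intro m
      induction m with
      | zero => simp [h0]
      | succ m ih => rw [succ_nsmul, hadd, ih, pow_succ]
    have h := hpow p
    rw [htor, h0] at h
    refine frobenius_inj k p ?_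
    simp only [frobenius_def, Pi.one_apply, one_pow]
    exact h.symm
  obtain ⟨T, e, he, he'⟩ := UnipStruct.exists_tower (k := k) (X := X) hpt hsep (exists_low hchar)
  obtain ⟨r, nn, F, q, hF, hq, hqF⟩ := exists_emb (p := p) T.isTwr
  let G : X →+ PW p k nn := F.comp e.toAddMonoidHom
  have hG : IsRegMap k G := IsRegMap.comp (ψ := (F : T.H → PW p k nn)) (φ := e) hF he
  have hGp : ∀ x j, p • G x j = 0 := fun x j => by
    rw [← Pi.smul_apply, ← map_nsmul, htor, map_zero, Pi.zero_apply]
  have htop : ∀ {M : ℕ} (a : TruncatedWittVector p (M + 1) k), p • a = 0 → a = top M (a.coeff (Fin.last M)) := by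
    intro M a ha
    refine TruncatedWittVector.ext fun l => ?_
    induction l using Fin.lastCases with
    | last => rw [coeff_top_last]
    | cast l => rw [coeff_top_castSucc, coeff_eq_zero_of_nsmul ha _ (by simp)]
  have hcoordW : ∀ (N : ℕ) (g : X →+ TruncatedWittVector p N k), IsRegMap k g → (∀ x, p • g x = 0) →
      ∀ i : Fin N, (fun x => (g x).coeff i) ∈ Algebra.adjoin k (addReg k X) := by
    intro N g hg hgp i
    by_cases hi : (i : ℕ) + 1 < N
    · rw [show (fun x => (g x).coeff i) = 0 from funext fun x => coeff_eq_zero_of_nsmul (hgp x) i hi]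
      exact zero_mem _
    · refine Algebra.subset_adjoin ⟨(isReg_coeff i).comp hg, fun x y => ?_⟩
      obtain ⟨M, rfl⟩ : ∃ M, N = M + 1 := ⟨N - 1, by have := i.2; omega⟩
      obtain rfl : i = Fin.last M := Fin.ext (by simp only [Fin.val_last]; have := i.2; omega)
      have h := map_add g x y
      rw [htop _ (hgp x), htop _ (hgp y), ← map_add] at h
      show (g (x + y)).coeff _ = (g x).coeff _ + (g y).coeff _
      rw [h, coeff_top_last]
  have hcoord : ∀ (j : Fin r) (i : Fin (nn j)),
      (fun x => (G x j).coeff i) ∈ Algebra.adjoin k (addReg k X) := fun j i =>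
    hcoordW (nn j) ((Pi.evalAddMonoidHom (fun j => TruncatedWittVector p (nn j) k) j).comp G) (isRegMap_pw.mp hG j)
      (fun x => hGp x j) i
  have hcomp : f = fun x => (fun v : PW p k nn => f (e.symm (q v))) (G x) := funext fun x => by
    simp [G, hqF]
  have hg : IsReg fun v : PW p k nn => f (e.symm (q v)) :=
    hf.comp (IsRegMap.comp (ψ := (e.symm : T.H → X)) (φ := q) he' hq)
  rw [hcomp]
  have : ∀ g : PW p k nn → k, IsReg g → (fun x => g (G x)) ∈ Algebra.adjoin k (addReg k X) := by
    intro g hg
    induction hg using Algebra.adjoin_induction with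
    | mem g hg =>
      obtain ⟨j, g', hg', rfl⟩ := hg
      obtain ⟨P, hP⟩ := isReg_witt_iff.mp hg'
      have hval : (fun x => g' (G x j)) = MvPolynomial.aeval (fun i => fun x => (G x j).coeff i) P := by
        funext x
        rw [hP]
        exact (congrFun (congrArg DFunLike.coe
          (MvPolynomial.comp_aeval (f := fun i => fun x => (G x j).coeff i) (Pi.evalAlgHom k (fun _ : X => k) x))) P).symm
      show (fun x => g' (G x j)) ∈ _
      rw [hval]
      have hr : MvPolynomial.aeval (fun i => fun x => (G x j).coeff i) P ∈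
          Algebra.adjoin k (Set.range fun i => fun x => (G x j).coeff i) := by
        rw [Algebra.adjoin_range_eq_range_aeval]
        exact ⟨P, rfl⟩
      exact Algebra.adjoin_le (Set.range_subset_iff.2 (hcoord j)) hr
    | algebraMap r => exact Subalgebra.algebraMap_mem _ r
    | add a b _ _ ha hb => exact add_mem ha hb
    | mul a b _ _ ha hb => exact mul_mem ha hb
  exact this _ hg

end

end Groth.Agent.H66.Vec
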