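import Groth.Agent.H66.Vec.Prim
import Groth.Agent.H66.Vec.Comp
import Groth.Agent.H66.Vec.Torsion
import Groth.Agent.H66.DimOne.Add
import Groth.Agent.Lib.Hopf.Points
import Mathlib

/-!
Over an algebraically closed field a reduced commutative group of exponent `p` has enough homomorphisms
to the additive group.
-/

set_option autoImplicit false
set_option linter.unusedSectionVars false
set_option linter.style.haveILetI false
universe u

namespace Groth.Agent.H66.Vec

open WithConv Groth.Agent.Lib.WittU Groth.Agent.Lib.Comod.Basic Groth.Agent.H66.DimOne Groth.Agent.H66.Smooth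
open Reg UnipChar

noncomputable section

theorem exists_retraction_of_module {F X : Type*} [Field F] [AddCommGroup X] [Module F X] (S : Submodule F X) :
    ∃ q : X →ₗ[F] S, ∀ x : S, q x = x := by
  obtain ⟨proj, hproj⟩ := LinearMap.exists_leftInverse_of_injective S.subtype S.ker_subtype
  exact ⟨proj, fun x => LinearMap.congr_fun hproj x⟩

theorem exists_retraction_of_torsion {X : Type*} [AddCommGroup X] {p : ℕ} [Fact p.Prime] (htor : ∀ x : X, p • x = 0)
    (X₀ : AddSubgroup X) : ∃ q : X →+ X₀, ∀ x : X₀, q x = x := by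
  obtain ⟨q, hq⟩ := @exists_retraction_of_module (ZMod p) X _ _ (AddCommGroup.zmodModule htor)
    (@AddSubgroup.toZModSubmodule p X _ (AddCommGroup.zmodModule htor) X₀)
  exact ⟨q.toAddMonoidHom, hq⟩

theorem exists_dual_ne_zero {F V : Type*} [Field F] [AddCommGroup V] [Module F V] {v : V} (hv : v ≠ 0) :
    ∃ l : V →+ F, l v ≠ 0 := by
  by_contra! h0
  exact hv ((Module.forall_dual_apply_eq_zero_iff F _).1 fun l => h0 l.toAddMonoidHom)

theorem indicator_mem_adjoin {k : Type u} [Field k] {X : Type u} [AddCommGroup X] [RegSpace k X] {V : Type*}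
    [AddCommGroup V] [Finite V] [DecidableEq V] {p : ℕ} [hp : Fact p.Prime] [CharP k p] (π : X →+ V) (hπ : Function.Surjective π) (htorX : ∀ x : X, p • x = 0)
    (hlc : ∀ F : V → k, IsReg fun γ => F (π γ)) (c : V) :
    (fun γ => if π γ = c then (1 : k) else 0) ∈ Algebra.adjoin k (addReg k X) := by
  classical
  have htor : ∀ c : V, p • c = 0 := fun c => by
    obtain ⟨γ, rfl⟩ := hπ c
    rw [← map_nsmul, htorX, map_zero]
  haveI : Finite (V →+ ZMod p) := Finite.of_injective _ DFunLike.coe_injective
  haveI := Fintype.ofFinite (V →+ ZMod p)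
  have hlin : ∀ l : V →+ ZMod p,
      (fun γ => (ZMod.castHom dvd_rfl k (l (π γ)))) ∈ Algebra.adjoin k (addReg k X) := fun l =>
    Algebra.subset_adjoin ⟨hlc fun c => ZMod.castHom dvd_rfl k (l c), fun x y => by simp⟩
  have hval : (fun γ => if π γ = c then (1 : k) else 0) =
      ∏ l : V →+ ZMod p,
        (1 - ((fun γ => ZMod.castHom dvd_rfl k (l (π γ))) - algebraMap k _ (ZMod.castHom dvd_rfl k (l c))) ^ (p - 1)) := by
    funext γ
    simp only [Finset.prod_apply, Pi.sub_apply, Pi.pow_apply, Pi.one_apply, Pi.algebraMap_apply,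
      Algebra.algebraMap_self, RingHom.id_apply, ← map_sub]
    by_cases h : π γ = c
    · rw [if_pos h]
      refine (Finset.prod_eq_one fun l _ => ?_).symm
      rw [h, sub_self, map_zero, map_zero, zero_pow (by have := hp.out.two_le; omega), sub_zero]
    · rw [if_neg h]
      obtain ⟨l, hl⟩ : ∃ l : V →+ ZMod p, l (π γ - c) ≠ 0 :=
        @exists_dual_ne_zero (ZMod p) V _ _ (AddCommGroup.zmodModule htor) _ (sub_ne_zero.2 h)
      refine (Finset.prod_eq_zero (Finset.mem_univ l) ?_).symm
      rw [← map_pow, ZMod.pow_card_sub_one_eq_one hl, map_one, sub_self]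
  rw [hval]
  exact Subalgebra.prod_mem _ fun l _ =>
    sub_mem (one_mem _) (_root_.pow_mem (sub_mem (hlin l) (Subalgebra.algebraMap_mem _ _)) _)

variable {k : Type u} [Field k] [IsAlgClosed k] {A : Type u} [CommRing A] [HopfAlgebra k A]
  [Algebra.FiniteType k A] [IsReduced A]

theorem eq_zero_of_forall_pts {a : A} (h : ∀ γ : GPt k A, evAll k A a γ = 0) : a = 0 :=
  Lib.Hopf.Points.eq_zero_of_forall_point_eq_zero (k := k) fun g => h (Additive.ofMul (toConv g))

theorem evAll_injective : Function.Injective (evAll k A) := fun a b h =>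
  sub_eq_zero.1 (eq_zero_of_forall_pts (k := k) fun γ => by
    rw [map_sub, h, sub_self]; rfl)

theorem tensor_eq_zero_of_pts {z : TensorProduct k A A}
    (h : ∀ g g' : A →ₐ[k] k, Algebra.TensorProduct.productMap g g' z = 0) : z = 0 := by
  classical
  let b := Module.Free.chooseBasis k A
  obtain ⟨c, rfl⟩ := TensorProduct.eq_repr_basis_right b z
  suffices ∀ i, c i = 0 by simp [Finsupp.sum, this]
  intro i
  refine Lib.Hopf.Points.eq_zero_of_forall_point_eq_zero (k := k) fun g => ?_
  have h1 : c.sum (fun j m => g m • b j) = 0 :=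
    Lib.Hopf.Points.eq_zero_of_forall_point_eq_zero (k := k) fun g' => by
      have h2 := h g g'
      rw [Finsupp.sum, map_sum] at h2
      rw [Finsupp.sum, map_sum]
      simpa [map_smul] using h2
  have h3 := congrArg (fun a => b.repr a i) h1
  simp only [Finsupp.sum, map_sum, map_smul, Finsupp.coe_finsetSum, Finset.sum_apply, Finsupp.coe_smul,
    Pi.smul_apply, Module.Basis.repr_self, map_zero, Finsupp.coe_zero, Pi.zero_apply, smul_eq_mul,
    Finsupp.single_apply, mul_ite, mul_one, mul_zero, Finset.sum_ite_eq'] at h3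
  by_cases hi : i ∈ c.support
  · simpa [hi] using h3
  · simp [Finsupp.notMem_support_iff.1 hi]

variable [Coalgebra.IsCocomm k A]

theorem mem_primSub_of_additive {a : A} (h : ∀ x y : GPt k A, evAll k A a (x + y) = evAll k A a x + evAll k A a y) :
    a ∈ primSub k A := by
  rw [mem_primSub, ← sub_eq_zero]
  refine tensor_eq_zero_of_pts fun g g' => ?_
  have h1 : Algebra.TensorProduct.productMap g g' (CoalgebraStruct.comul (R := k) a) =
      (toConv g * toConv g').ofConv a := by
    rw [AlgHom.convMul_apply]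
    generalize CoalgebraStruct.comul (R := k) a = z
    induction z using TensorProduct.induction_on with
    | zero => simp
    | add p q hp hq => simp only [map_add, hp, hq]
    | tmul p q => simp
  rw [map_sub, map_add, h1, sub_eq_zero, Algebra.TensorProduct.productMap_apply_tmul,
    Algebra.TensorProduct.productMap_apply_tmul, map_one, map_one, mul_one, one_mul]
  exact h (Additive.ofMul (toConv g)) (Additive.ofMul (toConv g'))

/-- The automorphism of the functions given by translation. -/
def tr (x : GPt k A) : A ≃ₐ[k] A := shift (Additive.toMul x).ofConv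

theorem evAll_tr (a : A) (x γ : GPt k A) : evAll k A (tr x a) γ = evAll k A a (γ + x) := by
  rw [evAll_add]
  show evAll k A (Lib.Comod.Cartier.trans _ a) γ = _
  rw [Lib.Comod.Cartier.trans_apply]

/-- The prime `P` contains no function nonvanishing at `γ`. -/
def Through (P : Ideal A) (γ : GPt k A) : Prop := P ≤ RingHom.ker (Additive.toMul γ).ofConv

theorem through_map {P : Ideal A} (x γ : GPt k A) :
    Through (P.comap ((tr x).symm : A →+* A)) γ ↔ Through P (γ + x) := by
  constructor
  · intro h a ha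
    have := h (show tr x a ∈ P.comap ((tr x).symm : A →+* A) by simpa using ha)
    show evAll k A a (γ + x) = 0
    rw [← evAll_tr]
    exact this
  · intro h a ha
    have := h (show (tr x).symm a ∈ P from ha)
    have h2 : evAll k A ((tr x).symm a) (γ + x) = 0 := this
    rw [← evAll_tr, AlgEquiv.apply_symm_apply] at h2
    exact h2

theorem comap_mem_minimalPrimes {P : Ideal A} (hP : P ∈ minimalPrimes A) (σ : A ≃ₐ[k] A) :
    P.comap (σ : A →+* A) ∈ minimalPrimes A := by
  refine ⟨⟨Ideal.IsPrime.comap (σ : A →+* A) (hK := hP.1.1), bot_le⟩, fun S hS hle' => ?_⟩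
  intro b hb
  have h1 : P ≤ S.comap (σ.symm : A →+* A) := hP.2 ⟨Ideal.IsPrime.comap _ (hK := hS.1), bot_le⟩
    fun c hc => by
      have := hle' (show σ.symm c ∈ S from hc)
      simpa using this
  simpa using h1 (show σ b ∈ P from hb)

theorem exists_through (γ : GPt k A) : ∃ P ∈ minimalPrimes A, Through P γ := by
  haveI : (RingHom.ker (Additive.toMul γ).ofConv).IsPrime := RingHom.ker_isPrime _
  obtain ⟨R, hR, h⟩ := Ideal.exists_minimalPrimes_le (I := (⊥ : Ideal A))
    (J := RingHom.ker (Additive.toMul γ).ofConv) bot_le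
  exact ⟨R, hR, h⟩

variable {p : ℕ} [hp : Fact p.Prime] [CharP k p]

/-- **Generation by primitive elements over an algebraically closed field.** -/
theorem adjoin_primSub_eq_top_of_algClosed (htor : ∀ x : GPt k A, p • x = 0) :
    Algebra.adjoin k (primSub k A : Set A) = ⊤ := by
  classical
  haveI : IsNoetherianRing A := Algebra.FiniteType.isNoetherianRing k A
  have huniq : ∀ {P Q : Ideal A} {γ : GPt k A}, P ∈ minimalPrimes A → Q ∈ minimalPrimes A →
      Through P γ → Through Q γ → P = Q := fun hP hQ h h' =>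
    minimalPrimes_subsingleton_le_ker homogeneous_counit _ hP hQ h h'
  obtain ⟨P₀, hP₀, hP₀0⟩ := exists_through (0 : GPt k A)
  haveI : P₀.IsPrime := hP₀.1.1
  have htrans : ∀ {x : GPt k A} {P : Ideal A}, P ∈ minimalPrimes A → Through P x →
      P.comap ((tr x).symm : A →+* A) = P₀ := fun {x P} hP h =>
    huniq (comap_mem_minimalPrimes hP _) hP₀ ((through_map x 0).2 (by rwa [zero_add])) hP₀0
  have hadd : ∀ {γ x : GPt k A}, Through P₀ γ → Through P₀ x → Through P₀ (γ + x) := fun {γ x} hγ hx =>
    (through_map x γ).1 (by rwa [htrans hP₀ hx])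
  let X₀ : AddSubgroup (GPt k A) :=
    { carrier := {γ | Through P₀ γ}
      zero_mem' := hP₀0
      add_mem' := fun {a b} ha hb => hadd ha hb
      neg_mem' := fun {a} ha => by
        have e : -a = (p - 1) • a := neg_eq_of_add_eq_zero_left (by
          rw [← succ_nsmul, Nat.sub_add_cancel hp.out.one_le, htor])
        show Through P₀ (-a)
        rw [e]
        induction (p - 1) with
        | zero => rw [zero_nsmul]; exact hP₀0
        | succ m ih => rw [succ_nsmul]; exact hadd ih ha }
  have hcoset : ∀ δ : GPt k A, ∀ P ∈ minimalPrimes A, Through P δ → ∀ γ, (Through P γ ↔ γ - δ ∈ X₀) := by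
    intro δ P hP hδ γ
    show _ ↔ Through P₀ (γ - δ)
    rw [← htrans hP hδ, through_map, sub_add_cancel]
  letI : RegSpace k X₀ := ⟨(RegSpace.reg : Subalgebra k (GPt k A → k)).map (Twr.pullFn (fun x : X₀ => (x : GPt k A)))⟩
  have hval : IsRegMap k (fun x : X₀ => (x : GPt k A)) := fun g hg => ⟨g, hg, rfl⟩
  have hinto : ∀ {Y : Type u} [RegSpace k Y] {φ : Y → X₀}, IsRegMap k (fun y => (φ y : GPt k A)) → IsRegMap k φ := by
    rintro Y _ φ h _ ⟨g, hg, rfl⟩
    exact h g hg
  haveI : RegAddGroup k X₀ :=
    { reg_add := hinto (IsRegMap.add (G := GPt k A)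
        (IsRegMap.comp (ψ := fun x : X₀ => (x : GPt k A)) (φ := Prod.fst) hval isRegMap_fst)
        (IsRegMap.comp (ψ := fun x : X₀ => (x : GPt k A)) (φ := Prod.snd) hval isRegMap_snd))
      reg_neg := hinto (IsRegMap.neg (G := GPt k A) hval) }
  let res : A →ₐ[k] Fn k X₀ := ((Twr.pullFn (fun x : X₀ => (x : GPt k A))).comp (evAll k A)).codRestrict _
    fun a => ⟨_, isReg_evAll a, rfl⟩
  have hres : Function.Surjective res := by
    rintro ⟨_, _, ⟨a, rfl⟩, rfl⟩
    exact ⟨a, rfl⟩
  have hker : RingHom.ker res = P₀ := by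
    refine le_antisymm (fun a ha => ?_) fun a ha => ?_
    · by_contra hne
      haveI : Algebra.FiniteType k (A ⧸ P₀) :=
        Algebra.FiniteType.of_surjective (Ideal.Quotient.mkₐ k P₀) Ideal.Quotient.mk_surjective
      obtain ⟨z, hz⟩ := exists_pt_ne_zero (k := k) (B := A ⧸ P₀) (f := Ideal.Quotient.mk P₀ a)
        (fun h => hne (Ideal.Quotient.eq_zero_iff_mem.1 h))
      let γ : GPt k A := Additive.ofMul (toConv (z.comp (Ideal.Quotient.mkₐ k P₀)))
      have hγ : γ ∈ X₀ := fun b hb => by
        show z (Ideal.Quotient.mk P₀ b) = 0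
        rw [Ideal.Quotient.eq_zero_iff_mem.2 hb, map_zero]
      exact hz (congrFun (congrArg Subtype.val (RingHom.mem_ker.1 ha)) ⟨γ, hγ⟩)
    · exact RingHom.mem_ker.2 (Subtype.ext (funext fun x => x.2 ha))
  let E : (A ⧸ P₀) ≃ₐ[k] Fn k X₀ :=
    (Ideal.quotientEquivAlgOfEq k hker.symm).trans (Ideal.quotientKerAlgEquivOfSurjective hres)
  haveI : IsDomain (Fn k X₀) := E.symm.toMulEquiv.isDomain (A ⧸ P₀)
  haveI : Algebra.FiniteType k (Fn k X₀) := Algebra.FiniteType.of_surjective res hres
  have hX₀ : ∀ g : X₀ → k, IsReg g → g ∈ Algebra.adjoin k (addReg k X₀) := fun g hg => by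
    refine adjoin_addReg_of_isDomain (p := p) (fun φ => ?_) (fun x y h => ?_)
      (fun x => Subtype.ext (by rw [AddSubgroup.coe_nsmul]; exact htor _)) hg
    · refine ⟨⟨Additive.ofMul (toConv (φ.comp res)), fun b hb => ?_⟩, fun f => ?_⟩
      · show φ (res b) = 0
        rw [RingHom.mem_ker.1 (hker.symm ▸ hb : b ∈ RingHom.ker res), map_zero]
      · obtain ⟨a, rfl⟩ := hres f
        rfl
    · exact Subtype.ext (Additive.toMul.injective (WithConv.ofConv_injective (AlgHom.ext fun a => h (res a))))
  let π : GPt k A →+ GPt k A ⧸ X₀ := QuotientAddGroup.mk' X₀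
  have hπeq : ∀ {γ δ : GPt k A}, π γ = π δ ↔ γ - δ ∈ X₀ := QuotientAddGroup.eq_iff_sub_mem
  choose comp hcompm hcomp using fun δ : GPt k A => exists_through δ
  haveI : Finite (GPt k A ⧸ X₀) := by
    haveI := (minimalPrimes.finite_of_isNoetherianRing A).to_subtype
    refine Finite.of_injective (fun q : GPt k A ⧸ X₀ => (⟨comp q.out, hcompm _⟩ : minimalPrimes A)) fun a b h => ?_
    have h1 : comp a.out = comp b.out := congrArg Subtype.val h
    have := (hcoset b.out _ (hcompm _) (hcomp _) a.out).1 (h1 ▸ hcomp a.out)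
    have h2 : π a.out = π b.out := hπeq.2 this
    simpa [π] using h2
  haveI := Fintype.ofFinite (GPt k A ⧸ X₀)
  have hind : ∀ δ : GPt k A, IsReg fun γ => if π γ = π δ then (1 : k) else 0 := by
    intro δ
    obtain ⟨ε, -, hε⟩ := exists_idem_component (homogeneous_counit (k := k) (A := A)) (hcompm δ)
    have : (fun γ => if π γ = π δ then (1 : k) else 0) = evAll k A ε := by
      funext γ
      have hiff : π γ = π δ ↔ Through (comp δ) γ := by
        rw [hcoset δ _ (hcompm δ) (hcomp δ) γ]
        exact hπeq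
      by_cases h : π γ = π δ
      · rw [if_pos h]; exact ((hε _).1 (hiff.1 h)).symm
      · rw [if_neg h]; exact ((hε _).2 fun h' => h (hiff.2 h')).symm
    rw [this]
    exact isReg_evAll ε
  have hlc : ∀ F : (GPt k A ⧸ X₀) → k, IsReg fun γ => F (π γ) := by
    intro F
    have : (fun γ => F (π γ)) = fun γ => ∑ c, F c * (if π γ = π c.out then (1 : k) else 0) := by
      funext γ
      simp [π]
    rw [this]
    exact IsReg.sum _ fun c _ => (isReg_const _).mul (hind c.out)
  let R := Algebra.adjoin k (addReg k (GPt k A))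
  have hindR : ∀ c : GPt k A ⧸ X₀, (fun γ => if π γ = c then (1 : k) else 0) ∈ R :=
    indicator_mem_adjoin (k := k) (X := GPt k A) (V := GPt k A ⧸ X₀) (p := p) π (QuotientAddGroup.mk'_surjective X₀) htor hlc
  obtain ⟨q, hproj⟩ := exists_retraction_of_torsion (p := p) htor X₀
  have hrest : ∀ (δ γ : GPt k A), π γ = π δ → (q γ : GPt k A) = γ + ((q δ : GPt k A) - δ) := by
    intro δ γ h
    have hm : γ - δ ∈ X₀ := hπeq.1 h
    have h1 : q (γ - δ) = ⟨γ - δ, hm⟩ := hproj ⟨γ - δ, hm⟩
    have h2 := congrArg (fun z : X₀ => (z : GPt k A)) h1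
    simp only [map_sub, AddSubgroup.coe_sub] at h2
    rw [show (q γ : GPt k A) = ((q γ : GPt k A) - q δ) + q δ by abel, h2]
    abel
  have hq : IsRegMap k q := by
    refine hinto fun f hf => ?_
    have : (f ∘ fun γ => (q γ : GPt k A)) = fun γ => ∑ c : GPt k A ⧸ X₀,
        (if π γ = c then (1 : k) else 0) * f (γ + ((q c.out : GPt k A) - c.out)) := by
      funext γ
      simp only [Function.comp, ite_mul, one_mul, zero_mul, Finset.sum_ite_eq, Finset.mem_univ, if_true]
      rw [← hrest _ γ (by simp [π])]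
    rw [this]
    exact IsReg.sum _ fun c _ => (hlc fun d => if d = c then 1 else 0).mul
      (hf.comp (IsRegMap.add (G := GPt k A) isRegMap_id' (isRegMap_const _)))
  rw [Algebra.eq_top_iff]
  intro a
  have ha : evAll k A a ∈ R := by
    have : evAll k A a = ∑ c : GPt k A ⧸ X₀, (fun γ => if π γ = c then (1 : k) else 0) *
        (fun γ => (fun y : X₀ => evAll k A a ((y : GPt k A) - ((q c.out : GPt k A) - c.out))) (q γ)) := by
      funext γ
      simp only [Finset.sum_apply, Pi.mul_apply, ite_mul, one_mul, zero_mul, Finset.sum_ite_eq, Finset.mem_univ,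
        if_true]
      rw [hrest (π γ).out γ (by simp [π])]
      simp
    rw [this]
    exact Subalgebra.sum_mem _ fun c _ => mul_mem (hindR c) (comp_mem_adjoin_addReg hq (hX₀ _
      ((isReg_evAll a).comp (IsRegMap.sub (G := GPt k A) hval (isRegMap_const _)))))
  have hle : R ≤ (Algebra.adjoin k (primSub k A : Set A)).map (evAll k A) := by
    rintro u hu
    induction hu using Algebra.adjoin_induction with
    | mem u hu =>
      obtain ⟨⟨b, rfl⟩, hadd'⟩ := hu
      exact ⟨b, Algebra.subset_adjoin (mem_primSub_of_additive hadd'), rfl⟩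
    | algebraMap r => exact Subalgebra.algebraMap_mem _ r
    | add a b _ _ ha hb => exact add_mem ha hb
    | mul a b _ _ ha hb => exact mul_mem ha hb
  obtain ⟨b, hb, hba⟩ := hle ha
  exact evAll_injective hba ▸ hb

end

end Groth.Agent.H66.Vec
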