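import Groth.Agent.Lib.WittU.Homs
import Mathlib

/-! Additive functions are algebraically independent unless their `p`-powers are linearly dependent. -/

set_option autoImplicit false
set_option linter.unusedSectionVars false
universe u

namespace Groth.Agent.H66.Vec

open MvPolynomial

variable {k : Type u} [Field k] {n : ℕ}

theorem totalDegree_shift_le (c : Fin n → k) (P : MvPolynomial (Fin n) k) :
    (bind₁ (fun i => X i + C (c i)) P).totalDegree ≤ P.totalDegree := by
  classical
  conv_lhs => rw [P.as_sum, map_sum]
  refine totalDegree_finsetSum_le fun s hs => ?_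
  rw [bind₁_monomial]
  refine (totalDegree_mul _ _).trans ?_
  rw [totalDegree_C, zero_add]
  refine (totalDegree_finsetProd _ _).trans (le_trans ?_ (le_totalDegree hs))
  refine Finset.sum_le_sum fun i _ => (totalDegree_pow _ _).trans ?_
  calc s i * (X i + C (c i)).totalDegree ≤ s i * 1 :=
        Nat.mul_le_mul_left _ ((totalDegree_add _ _).trans (by simp [totalDegree_X]))
    _ = s i := mul_one _

theorem totalDegree_shift_sub_le (c : Fin n → k) (d : ℕ) :
    ∀ P : MvPolynomial (Fin n) k, P.totalDegree ≤ d + 1 →
      (bind₁ (fun i => X i + C (c i)) P - P).totalDegree ≤ d := by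
  classical
  suffices h : ∀ (m : ℕ) (s : Fin n →₀ ℕ), (s.sum fun _ e => e) ≤ m → ∀ a : k,
      (bind₁ (fun i => X i + C (c i)) (monomial s a) - monomial s a).totalDegree ≤ m - 1 by
    intro P hP
    rw [show bind₁ (fun i => X i + C (c i)) P - P =
        ∑ s ∈ P.support, (bind₁ (fun i => X i + C (c i)) (monomial s (coeff s P)) - monomial s (coeff s P)) by
      rw [Finset.sum_sub_distrib, ← map_sum, ← P.as_sum]]
    exact totalDegree_finsetSum_le fun s hs => (h (d + 1) s ((le_totalDegree hs).trans hP) _).trans (by simp)
  intro m
  induction m with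
  | zero =>
    intro s hs a
    have : s = 0 := by
      ext i
      by_contra hne
      have h1 : s i ≤ s.sum fun _ e => e :=
        Finset.single_le_sum (fun j _ => Nat.zero_le (s j)) (Finsupp.mem_support_iff.2 hne)
      simp only [Finsupp.coe_zero, Pi.zero_apply] at hne
      omega
    subst this
    simp [monomial_zero']
  | succ m ih =>
    intro s hs a
    by_cases h0 : s = 0
    · subst h0; simp [monomial_zero']
    obtain ⟨i, hi⟩ := Finsupp.support_nonempty_iff.2 h0
    let s' := s - Finsupp.single i 1
    have hs' : s = s' + Finsupp.single i 1 := by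
      ext j
      rcases eq_or_ne j i with rfl | hj
      · have := Finsupp.mem_support_iff.1 hi
        simp [s']; omega
      · simp [s', hj]
    have hsum : (s'.sum fun _ e => e) ≤ m := by
      rw [hs', Finsupp.sum_add_index' (fun _ => rfl) (fun _ _ _ => rfl), Finsupp.sum_single_index rfl] at hs
      omega
    have hmon : monomial s a = monomial s' a * X i := by
      rw [hs', monomial_add_single, pow_one]
    rw [hmon, map_mul, bind₁_X_right,
      show bind₁ (fun i => X i + C (c i)) (monomial s' a) * (X i + C (c i)) - monomial s' a * X i =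
        (bind₁ (fun i => X i + C (c i)) (monomial s' a) - monomial s' a) * X i +
          bind₁ (fun i => X i + C (c i)) (monomial s' a) * C (c i) by ring]
    have hdeg : (monomial s' a).totalDegree ≤ m := by
      by_cases ha : a = 0
      · simp [ha]
      · rw [totalDegree_monomial _ ha]; exact hsum
    refine (totalDegree_add _ _).trans (max_le ?_ ?_)
    · by_cases hm : m = 0
      · subst hm
        have : s' = 0 := by
          ext j
          by_contra hne
          have h1 : s' j ≤ s'.sum fun _ e => e :=
            Finset.single_le_sum (fun t _ => Nat.zero_le (s' t)) (Finsupp.mem_support_iff.2 hne)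
          simp only [Finsupp.coe_zero, Pi.zero_apply] at hne
          omega
        simp [this, monomial_zero']
      · refine (totalDegree_mul _ _).trans ?_
        rw [totalDegree_X]
        have := ih s' hsum a
        omega
    · refine (totalDegree_mul _ _).trans ?_
      rw [totalDegree_C, add_zero]
      exact ((totalDegree_shift_le c _).trans hdeg).trans (by simp)

variable [Infinite k]

theorem eq_zero_of_forall_eval {P : MvPolynomial (Fin n) k} (h : ∀ x, eval x P = 0) : P = 0 :=
  MvPolynomial.funext (q := 0) fun x => by rw [h, map_zero]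

/-- **Artin's lemma.** A polynomial relation between additive maps gives an additive one. -/
theorem exists_additive_relation {X' : Type u} [AddCommGroup X'] (π : X' →+ (Fin n → k))
    (h : ∃ P : MvPolynomial (Fin n) k, P ≠ 0 ∧ ∀ x, eval (π x) P = 0) :
    ∃ R : MvPolynomial (Fin n) k, R ≠ 0 ∧ (∀ x, eval (π x) R = 0) ∧ ∀ v w, eval (v + w) R = eval v R + eval w R := by
  classical
  have hex : ∃ d, ∃ P : MvPolynomial (Fin n) k, P ≠ 0 ∧ (∀ x, eval (π x) P = 0) ∧ P.totalDegree = d :=
    let ⟨P, h1, h2⟩ := h; ⟨_, P, h1, h2, rfl⟩
  obtain ⟨R, hR0, hR, hdeg⟩ := Nat.find_spec hex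
  have hmin : ∀ P : MvPolynomial (Fin n) k, P.totalDegree < R.totalDegree → (∀ x, eval (π x) P = 0) → P = 0 := by
    intro P hP h0
    by_contra hne
    exact Nat.find_min hex (hdeg ▸ hP) ⟨P, hne, h0, rfl⟩
  obtain ⟨d, hd⟩ : ∃ d, R.totalDegree = d + 1 := by
    refine ⟨R.totalDegree - 1, ?_⟩
    by_contra hne
    have h1 : R.totalDegree = 0 := by omega
    rw [totalDegree_eq_zero_iff_eq_C] at h1
    have h2 := hR 0
    rw [h1, eval_C] at h2
    exact hR0 (by rw [h1, h2, map_zero])
  have hev : ∀ (c v : Fin n → k) (P : MvPolynomial (Fin n) k),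
      eval v (bind₁ (fun i => X i + C (c i)) P) = eval (v + c) P := fun c v P => by
    show eval₂Hom (RingHom.id k) v _ = eval₂Hom (RingHom.id k) (v + c) P
    rw [eval₂Hom_bind₁]
    refine DFunLike.congr_fun (congrArg (eval₂Hom (RingHom.id k)) (funext fun i => ?_)) P
    simp
  -- invariance under the image
  have hper : ∀ x v, eval (v + π x) R = eval v R := by
    intro x
    have h0 : bind₁ (fun i => X i + C (π x i)) R - R = 0 := by
      refine hmin _ (by have := totalDegree_shift_sub_le (π x) d R hd.le; omega) fun y => ?_
      rw [map_sub, hev, ← map_add, hR, hR, sub_zero]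
    intro v
    rw [← hev, sub_eq_zero.1 h0]
  refine ⟨R, hR0, hR, fun v w => ?_⟩
  have h0 : bind₁ (fun i => X i + C (v i)) R - R - C (eval v R) = 0 := by
    refine hmin _ ?_ fun y => ?_
    · have := totalDegree_shift_sub_le v d R hd.le
      have h2 := totalDegree_sub (bind₁ (fun i => X i + C (v i)) R - R) (C (eval v R))
      rw [totalDegree_C] at h2
      omega
    · rw [map_sub, map_sub, hev, eval_C, hR, sub_zero, add_comm, hper, sub_self]
  have h1 := congrArg (eval w) h0
  rw [map_sub, map_sub, hev, eval_C, map_zero, sub_eq_zero] at h1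
  rw [← h1, add_comm v w]
  ring

end Groth.Agent.H66.Vec
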