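import Groth.Agent.H66.Vec.Dense
import Groth.Agent.H66.Vec.Comp

import Mathlib

/-! Reduction of the additive relations between generators of a group of exponent `p`. -/

set_option autoImplicit false
set_option linter.unusedSectionVars false
set_option linter.style.haveILetI false
universe u

namespace Groth.Agent.H66.Vec

open TensorProduct WithConv

noncomputable section

variable {k : Type u} [Field k] {A : Type u} [CommRing A] [HopfAlgebra k A]

/-- An additive relation `∑ c i l * u i ^ p ^ l` with `c i l` vanishing for `d i ≤ l`. -/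
structure Rel (p : ℕ) (k : Type u) [Field k] {A : Type u} [CommRing A] [Algebra k A] {n : ℕ} (u : Fin n → A) where
  c : Fin n → ℕ → k
  d : Fin n → ℕ
  hd : ∀ i l, d i ≤ l → c i l = 0
  ne : ∃ i l, c i l ≠ 0
  rel : ∑ i, ∑ l ∈ Finset.range (d i), c i l • u i ^ p ^ l = 0

variable {p : ℕ} [hp : Fact p.Prime] [CharP k p] {n : ℕ}

theorem sum_range_ext (u : A) (c : ℕ → k) {d N : ℕ} (hdN : d ≤ N) (hd : ∀ l, d ≤ l → c l = 0) :
    ∑ l ∈ Finset.range d, c l • u ^ p ^ l = ∑ l ∈ Finset.range N, c l • u ^ p ^ l :=
  Finset.sum_subset (Finset.range_subset_range.2 hdN) fun l _ hl => by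
    rw [hd l (by simpa using hl), zero_smul]

theorem exists_rel_of_not_powIndep {u : Fin n → A} (h : ¬ PowIndep p k u) : Nonempty (Rel p k u) := by
  classical
  obtain ⟨s, g, hs, il, hil, hne⟩ := not_linearIndependent_iff.1 h
  let c : Fin n → ℕ → k := fun i l => if (i, l) ∈ s then g (i, l) else 0
  let N := s.sup (fun il => il.2) + 1
  refine ⟨⟨c, fun _ => N, fun i l hl => if_neg fun hm => ?_, ⟨il.1, il.2, by simpa [c, hil] using hne⟩, ?_⟩⟩
  · have := Finset.le_sup (f := fun il : Fin n × ℕ => il.2) hm
    simp only [N] at hl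
    omega
  · rw [← hs, ← Finset.sum_product']
    refine (Finset.sum_subset_zero_on_sdiff (fun x hx => ?_) (fun x hx => ?_) fun x hx => ?_).symm
    · have := Finset.le_sup (f := fun il : Fin n × ℕ => il.2) hx
      simp only [Finset.mem_product, Finset.mem_univ, Finset.mem_range, true_and, N]
      omega
    · simp [c, (Finset.mem_sdiff.1 hx).2]
    · simp [c, hx]

/-- The principal part has no nonzero zero over `k`. -/
def Rel.IsMinimal {u : Fin n → A} (r : Rel p k u) : Prop :=
  (∀ i, 0 < r.d i → r.c i (r.d i - 1) ≠ 0) ∧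
    ∀ a : Fin n → k, (∀ i, a i ≠ 0 → 0 < r.d i) →
      ∑ i, r.c i (r.d i - 1) * a i ^ p ^ (r.d i - 1) = 0 → a = 0

/-- A system of generators from a space of functions. -/
def IsGenIn {k : Type u} [Field k] {A : Type u} [CommRing A] [Algebra k A] (S : Submodule k A) {n : ℕ}
    (u : Fin n → A) : Prop :=
  (∀ i, u i ∈ S) ∧ Algebra.adjoin k (Set.range u) = ⊤

/-- A system of generators by primitive elements. -/
abbrev IsGen (k : Type u) [Field k] {A : Type u} [CommRing A] [HopfAlgebra k A] {n : ℕ} (u : Fin n → A) : Prop :=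
  IsGenIn (primSub k A) u

variable {S : Submodule k A}

theorem exists_smaller_of_zero (hS : ∀ a ∈ S, ∀ m : ℕ, a ^ p ^ m ∈ S) {u : Fin n → A} (hu : IsGenIn S u) (r : Rel p k u)
    (htop : ∀ i, 0 < r.d i → r.c i (r.d i - 1) ≠ 0) {a : Fin n → k} (hsupp : ∀ i, a i ≠ 0 → 0 < r.d i)
    (hzero : ∑ i, r.c i (r.d i - 1) * a i ^ p ^ (r.d i - 1) = 0) (ha : a ≠ 0) :
    ∃ (g : Fin n → A) (r' : Rel p k g), IsGenIn S g ∧ ∑ i, r'.d i < ∑ i, r.d i := by
  classical
  rcases subsingleton_or_nontrivial A with hA | hA
  · exfalso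
    have h := congrArg (CoalgebraStruct.counit (R := k)) (Subsingleton.elim (1 : A) 0)
    rw [Bialgebra.counit_one, map_zero] at h
    exact one_ne_zero h
  haveI : CharP A p := charP_of_injective_algebraMap (algebraMap k A).injective p
  let T := Finset.univ.filter fun i => a i ≠ 0
  obtain ⟨j₀, hj₀, hmax⟩ := T.exists_max_image (fun i => r.d i) (by
    obtain ⟨i, hi⟩ := Function.ne_iff.1 ha
    exact ⟨i, by simpa [T] using hi⟩)
  simp only [T, Finset.mem_filter, Finset.mem_univ, true_and] at hj₀ hmax
  obtain ⟨m₀, hm₀⟩ : ∃ m₀, r.d j₀ = m₀ + 1 := ⟨r.d j₀ - 1, by have := hsupp j₀ hj₀; omega⟩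
  let e : Fin n → ℕ := fun j => r.d j₀ - r.d j
  let g : Fin n → A := fun j => if j = j₀ then (a j₀)⁻¹ • u j₀
    else u j - a j • ((a j₀)⁻¹ • u j₀) ^ p ^ e j
  have hg0 : g j₀ = (a j₀)⁻¹ • u j₀ := if_pos rfl
  have huj : ∀ j, j ≠ j₀ → u j = g j + a j • g j₀ ^ p ^ e j := fun j hj => by
    rw [hg0, show g j = _ from if_neg hj, sub_add_cancel]
  have hu0 : u j₀ = a j₀ • g j₀ := by rw [hg0, smul_smul, mul_inv_cancel₀ hj₀, one_smul]
  have hgprim : ∀ j, g j ∈ S := fun j => by
    by_cases hj : j = j₀
    · subst hj; rw [hg0]; exact Submodule.smul_mem _ _ (hu.1 _)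
    · rw [show g j = _ from if_neg hj]
      exact sub_mem (hu.1 _) (Submodule.smul_mem _ _ (hS _ (Submodule.smul_mem _ _ (hu.1 _)) _))
  have hgtop : Algebra.adjoin k (Set.range g) = ⊤ := by
    rw [eq_top_iff, ← hu.2]
    refine Algebra.adjoin_le ?_
    rintro _ ⟨j, rfl⟩
    by_cases hj : j = j₀
    · subst hj; rw [hu0]; exact Subalgebra.smul_mem _ (Algebra.subset_adjoin (Set.mem_range_self _)) _
    · rw [huj j hj]
      exact add_mem (Algebra.subset_adjoin (Set.mem_range_self _))
        (Subalgebra.smul_mem _ (_root_.pow_mem (Algebra.subset_adjoin (Set.mem_range_self _)) _) _)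
  -- substitution
  let c' : Fin n → ℕ → k := fun j l => if j = j₀ then
      ∑ i, (if e i ≤ l then r.c i (l - e i) * a i ^ p ^ (l - e i) else 0) else r.c j l
  let d' : Fin n → ℕ := Function.update r.d j₀ m₀
  have hd0 : ∀ l, m₀ ≤ l → c' j₀ l = 0 := by
    intro l hl
    simp only [c', if_true]
    by_cases hlt : m₀ < l
    · refine Finset.sum_eq_zero fun i _ => ?_
      by_cases hi : a i = 0
      · rw [hi, zero_pow (pow_ne_zero _ hp.out.ne_zero), mul_zero, ite_self]
      · split_ifs with h
        · have := hmax i hi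
          rw [r.hd i _ (by simp only [e] at h ⊢; omega), zero_mul]
        · rfl
    · obtain rfl : l = m₀ := by omega
      refine Eq.trans ?_ hzero
      refine Finset.sum_congr rfl fun i _ => ?_
      by_cases hi : a i = 0
      · rw [hi, zero_pow (pow_ne_zero _ hp.out.ne_zero), mul_zero, ite_self,
          zero_pow (pow_ne_zero _ hp.out.ne_zero), mul_zero]
      · have := hmax i hi
        have := hsupp i hi
        rw [if_pos (by simp only [e]; omega), show l - e i = r.d i - 1 by simp only [e]; omega]
  have hne' : ∃ i l, c' i l ≠ 0 := by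
    by_contra! hall
    have hsingle : ∀ j, j ≠ j₀ → a j = 0 := by
      intro j hj
      by_contra haj
      have h1 := hall j (r.d j - 1)
      simp only [c', if_neg hj] at h1
      exact htop j (hsupp j haj) h1
    rw [Finset.sum_eq_single j₀ (fun j _ hj => by
      rw [hsingle j hj, zero_pow (pow_ne_zero _ hp.out.ne_zero), mul_zero]) (by simp)] at hzero
    exact mul_ne_zero (htop j₀ (hsupp j₀ hj₀)) (pow_ne_zero _ hj₀) hzero
  have hd' : ∀ i l, d' i ≤ l → c' i l = 0 := by
    intro i l hl
    by_cases hi : i = j₀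
    · subst hi; exact hd0 l (by simpa [d'] using hl)
    · simp only [c', if_neg hi]
      exact r.hd i l (by simpa [d', hi] using hl)
  refine ⟨g, ⟨c', d', hd', hne', ?_⟩, ⟨hgprim, hgtop⟩, Finset.sum_lt_sum (fun i _ => ?_) ⟨j₀, Finset.mem_univ _, ?_⟩⟩
  · -- expand the old relation
    let N := Finset.univ.sup r.d + r.d j₀ + 1
    have hN : ∀ i, r.d i ≤ N := fun i => by
      have := Finset.le_sup (f := r.d) (Finset.mem_univ i); simp only [N]; omega
    let F : Fin n → A := fun i => ∑ l ∈ Finset.range N, r.c i l • u i ^ p ^ l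
    have hrel : ∑ i, F i = 0 := by
      rw [← r.rel]
      exact Finset.sum_congr rfl fun i _ => (sum_range_ext (u i) (r.c i) (hN i) (r.hd i)).symm
    let G : Fin n → A := fun i => if i = j₀ then 0 else ∑ l ∈ Finset.range N, r.c i l • g i ^ p ^ l
    let H : Fin n → A := fun i => ∑ l ∈ Finset.range (N + r.d j₀),
      (if e i ≤ l then r.c i (l - e i) * a i ^ p ^ (l - e i) else 0) • g j₀ ^ p ^ l
    have hF : ∀ i, F i = G i + H i := by
      intro i
      have hH : H i = ∑ l ∈ Finset.range N, (r.c i l * a i ^ p ^ l) • g j₀ ^ p ^ (l + e i) := by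
        have he : e i ≤ r.d j₀ := Nat.sub_le _ _
        have hsplit : Finset.range (N + r.d j₀) = Finset.range (e i) ∪ (Finset.range (N + r.d j₀ - e i)).image (· + e i) := by
          ext l
          simp only [Finset.mem_range, Finset.mem_union, Finset.mem_image]
          constructor
          · intro h
            by_cases h' : l < e i
            · exact Or.inl h'
            · exact Or.inr ⟨l - e i, by omega, by omega⟩
          · rintro (h | ⟨m, hm, rfl⟩) <;> omega
        simp only [H]
        rw [hsplit, Finset.sum_union (by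
          rw [Finset.disjoint_left]; intro l hl hl'
          simp only [Finset.mem_range, Finset.mem_image] at hl hl'
          obtain ⟨m, _, rfl⟩ := hl'; omega),
          Finset.sum_eq_zero (s := Finset.range (e i)) (fun l hl => by
            rw [if_neg (by simpa using hl), zero_smul]), zero_add,
          Finset.sum_image (by intro x _ y _ h; simpa using h)]
        simp only [Nat.le_add_left, if_true, Nat.add_sub_cancel]
        exact (Finset.sum_subset (Finset.range_subset_range.2 (by omega)) fun l _ hl => by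
          rw [r.hd i l (by have := hN i; simp at hl; omega), zero_mul, zero_smul]).symm
      rw [hH]
      by_cases hi : i = j₀
      · subst hi
        simp only [G, if_true, zero_add, F, hu0, smul_pow, smul_smul, show e i = 0 from Nat.sub_self _, add_zero]
      · simp only [G, if_neg hi, F]
        rw [← Finset.sum_add_distrib]
        refine Finset.sum_congr rfl fun l _ => ?_
        rw [huj i hi, add_pow_char_pow, smul_pow, ← pow_mul, ← pow_add, smul_add, smul_smul, add_comm l (e i)]
    rw [Finset.sum_congr rfl fun i _ => hF i, Finset.sum_add_distrib] at hrel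
    rw [← hrel, ← Finset.sum_erase_add _ _ (Finset.mem_univ j₀), ← Finset.sum_erase_add _ G (Finset.mem_univ j₀)]
    simp only [G, if_true, add_zero]
    congr 1
    · refine Finset.sum_congr rfl fun i hi => ?_
      have hi' := (Finset.mem_erase.1 hi).1
      simp only [if_neg hi', c', d', Function.update_of_ne hi']
      exact sum_range_ext (g i) (r.c i) (hN i) (r.hd i)
    · simp only [H, d', Function.update_self]
      rw [sum_range_ext (g j₀) (c' j₀) (N := N + r.d j₀) (by omega) hd0, Finset.sum_comm]
      refine Finset.sum_congr rfl fun l _ => ?_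
      simp only [c', if_true, Finset.sum_smul]
  · by_cases hi : i = j₀
    · subst hi; simp [d', hm₀]
    · simp [d', hi]
  · simp [d', hm₀]

/-- **Reduction.** -/
theorem exists_good_in (hS : ∀ a ∈ S, ∀ m : ℕ, a ^ p ^ m ∈ S) {u : Fin n → A} (hu : IsGenIn S u) :
    ∃ g : Fin n → A, IsGenIn S g ∧ (PowIndep p k g ∨ ∃ r : Rel p k g, r.IsMinimal) := by
  classical
  by_cases h : PowIndep p k u
  · exact ⟨u, hu, Or.inl h⟩
  have hex : ∃ m, ∃ (g : Fin n → A) (r : Rel p k g), IsGenIn S g ∧ ∑ i, r.d i = m :=
    ⟨_, u, (exists_rel_of_not_powIndep h).some, hu, rfl⟩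
  obtain ⟨g, r, hg, hm⟩ := Nat.find_spec hex
  have hmin : ∀ (g' : Fin n → A) (r' : Rel p k g'), IsGenIn S g' → ¬ ∑ i, r'.d i < ∑ i, r.d i := fun g' r' hg' hlt =>
    Nat.find_min hex (hm ▸ hlt) ⟨g', r', hg', rfl⟩
  have htop : ∀ i, 0 < r.d i → r.c i (r.d i - 1) ≠ 0 := by
    intro i hi h0
    refine hmin g ⟨r.c, Function.update r.d i (r.d i - 1), fun j l hl => ?_, r.ne, ?_⟩ hg
      (Finset.sum_lt_sum (fun j _ => ?_) ⟨i, Finset.mem_univ _, by simp; omega⟩)
    · by_cases hj : j = i
      · subst hj
        simp only [Function.update_self] at hl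
        rcases eq_or_lt_of_le hl with rfl | hl
        · exact h0
        · exact r.hd _ l (by omega)
      · exact r.hd j l (by simpa [hj] using hl)
    · refine (Finset.sum_congr rfl fun j _ => ?_).trans r.rel
      by_cases hj : j = i
      · subst hj
        simp only [Function.update_self]
        exact sum_range_ext _ _ (by omega) fun l hl => by
          rcases eq_or_lt_of_le hl with rfl | hl
          · exact h0
          · exact r.hd _ l (by omega)
      · simp [hj]
    · by_cases hj : j = i
      · subst hj; simp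
      · simp [hj]
  refine ⟨g, hg, Or.inr ⟨r, htop, fun a hsupp hzero => ?_⟩⟩
  by_contra ha
  obtain ⟨g', r', hg', hlt⟩ := exists_smaller_of_zero hS hg r htop hsupp hzero ha
  exact hmin g' r' hg' hlt

theorem exists_good {u : Fin n → A} (hu : IsGen k u) :
    ∃ g : Fin n → A, IsGen k g ∧ (PowIndep p k g ∨ ∃ r : Rel p k g, r.IsMinimal) :=
  exists_good_in (fun _ ha m => pow_mem ha m) hu

end

end Groth.Agent.H66.Vec
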