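import Groth.Agent.H66.Vec.Gen
import Groth.Agent.H66.Vec.Artin
import Mathlib

/-! Primitive elements with linearly independent `p`-powers are algebraically independent. -/

set_option autoImplicit false
set_option linter.unusedSectionVars false
set_option linter.style.haveILetI false
universe u

namespace Groth.Agent.H66.Vec

open TensorProduct WithConv Groth.Agent.H66.DimOne Groth.Agent.Lib.WittU Reg

noncomputable section

variable {k : Type u} [Field k] {A : Type u} [CommRing A] [HopfAlgebra k A] [Algebra.FiniteType k A]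
  [Coalgebra.IsCocomm k A]

/-- The `p`-powers of the family are linearly independent. -/
def PowIndep (p : ℕ) (k : Type u) [Field k] {A : Type u} [CommRing A] [Algebra k A] {n : ℕ} (u : Fin n → A) : Prop :=
  LinearIndependent k fun il : Fin n × ℕ => u il.1 ^ p ^ il.2

theorem linearIndependent_one_tmul {K : Type u} [Field K] [Algebra k K] {V : Type u} [AddCommGroup V] [Module k V]
    {ι : Type*} {v : ι → V} (hv : LinearIndependent k v) :
    LinearIndependent K fun i => (1 : K) ⊗ₜ[k] v i := by
  classical
  let b := Module.Basis.extend hv.linearIndepOn_id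
  let e : ι → hv.linearIndepOn_id.extend (Set.subset_univ _) :=
    fun i => ⟨v i, hv.linearIndepOn_id.subset_extend _ ⟨i, rfl⟩⟩
  have hinj : Function.Injective e := fun i j h => hv.injective (congrArg Subtype.val h)
  have h := (b.baseChange K).linearIndependent.comp e hinj
  have he : (fun i => (1 : K) ⊗ₜ[k] v i) = (b.baseChange K) ∘ e := funext fun i => by
    simp [b, e, Module.Basis.baseChange_apply]
  rw [he]
  exact h

theorem eval_add_of_prim {a : A} (ha : a ∈ primSub k A) (x y : GPt k A) :
    evAll k A a (x + y) = evAll k A a x + evAll k A a y := by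
  show (Additive.toMul x * Additive.toMul y).ofConv a = _
  rw [AlgHom.convMul_apply, mem_primSub.1 ha]
  simp [evAll]

section AlgClosed

variable {p : ℕ} [Fact p.Prime] [CharP k p] [IsAlgClosed k] [IsReduced A]

theorem eq_zero_of_relation {n : ℕ} {u : Fin n → A} (hu : ∀ i, u i ∈ primSub k A) (hind : PowIndep p k u)
    {P : MvPolynomial (Fin n) k} (hP : MvPolynomial.aeval u P = 0) : P = 0 := by
  classical
  by_contra hne
  haveI : Infinite k := inferInstance
  let π : GPt k A →+ (Fin n → k) := AddMonoidHom.mk' (fun x i => evAll k A (u i) x)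
    fun x y => funext fun i => eval_add_of_prim (hu i) x y
  have hev : ∀ (Q : MvPolynomial (Fin n) k) (x : GPt k A),
      MvPolynomial.eval (π x) Q = evAll k A (MvPolynomial.aeval u Q) x := by
    intro Q x
    show _ = (Additive.toMul x).ofConv (MvPolynomial.aeval u Q)
    rw [show (Additive.toMul x).ofConv (MvPolynomial.aeval u Q) =
      ((Additive.toMul x).ofConv.comp (MvPolynomial.aeval u)) Q from rfl, MvPolynomial.comp_aeval]
    rfl
  obtain ⟨R, hR0, hR, hadd⟩ := exists_additive_relation π ⟨P, hne, fun x => by rw [hev, hP, map_zero]; rfl⟩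
  let Ri : Fin n → (k →+ k) := fun i => AddMonoidHom.mk' (fun t => MvPolynomial.eval (Pi.single i t) R)
    fun s t => by rw [Pi.single_add, hadd]
  have hreg : ∀ i, IsReg (Ri i : k → k) := fun i =>
    (isReg_pi_iff.2 ⟨R, fun _ => rfl⟩ : IsReg fun v : Fin n → k => MvPolynomial.eval v R).comp
      (isRegMap_pi.2 fun j => by
        by_cases h : j = i
        · subst h; simpa using (isReg_id' (k := k))
        · simpa [h] using isReg_const (X := k) (0 : k))
  choose D b hb using fun i => Homs.exists_pPoly (p := p) (Ri i) (hreg i)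
  let S : Finset (Fin n × ℕ) := Finset.univ.sigma (fun i => Finset.range (D i)) |>.image fun il => (il.1, il.2)
  have hz : ∑ il ∈ S, b il.1 il.2 • u il.1 ^ p ^ il.2 = 0 := by
    refine eq_zero_of_forall_pts (k := k) fun x => ?_
    have h1 : MvPolynomial.eval (π x) R = ∑ i, Ri i (π x i) := by
      let Rhom : (Fin n → k) →+ k := AddMonoidHom.mk' (fun v => MvPolynomial.eval v R) hadd
      calc MvPolynomial.eval (π x) R = Rhom (∑ i, Pi.single i (π x i)) := by rw [Finset.univ_sum_single]; rfl
        _ = ∑ i, Ri i (π x i) := map_sum Rhom _ _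
    rw [hR] at h1
    simp only [hb] at h1
    rw [Finset.sum_image (fun a _ b _ h => by cases a; cases b; simp_all), Finset.sum_sigma, map_sum, Finset.sum_apply]
    simp only [map_sum, map_smul, map_pow, Finset.sum_apply, Pi.smul_apply, Pi.pow_apply, smul_eq_mul]
    exact h1.symm
  have hb0 : ∀ i, ∀ l ∈ Finset.range (D i), b i l = 0 := fun i l hl =>
    linearIndependent_iff'.1 hind S (fun il => b il.1 il.2) hz (i, l)
      (Finset.mem_image.2 ⟨⟨i, l⟩, Finset.mem_sigma.2 ⟨Finset.mem_univ i, hl⟩, rfl⟩)
  refine hR0 (eq_zero_of_forall_eval fun v => ?_)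
  let Rhom : (Fin n → k) →+ k := AddMonoidHom.mk' (fun v => MvPolynomial.eval v R) hadd
  calc MvPolynomial.eval v R = Rhom (∑ i, Pi.single i (v i)) := by rw [Finset.univ_sum_single]; rfl
    _ = ∑ i, Ri i (v i) := map_sum Rhom _ _
    _ = 0 := Finset.sum_eq_zero fun i _ => by
      rw [hb]; exact Finset.sum_eq_zero fun l hl => by rw [hb0 i l hl, zero_mul]

end AlgClosed

/-- **Independence.** -/
theorem toVec_injective [Algebra.FormallySmooth k A] {p : ℕ} [Fact p.Prime] [CharP k p] {n : ℕ} {u : Fin n → A}
    (hu : ∀ i, u i ∈ primSub k A) (hind : PowIndep p k u) : Function.Injective (toVec u hu) := by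
  let K := AlgebraicClosure k
  haveI : CharP K p := charP_of_injective_algebraMap (algebraMap k K).injective p
  haveI : IsReduced (K ⊗[k] A) := isReduced_baseChange K
  let uK : Fin n → K ⊗[k] A := fun i => (1 : K) ⊗ₜ[k] u i
  have hindK : PowIndep p K uK := by
    have h := linearIndependent_one_tmul (K := K) hind
    show LinearIndependent K fun il : Fin n × ℕ => uK il.1 ^ p ^ il.2
    rw [show (fun il : Fin n × ℕ => uK il.1 ^ p ^ il.2) = fun il => (1 : K) ⊗ₜ[k] (u il.1 ^ p ^ il.2) from
      funext fun il => by simp [uK, Algebra.TensorProduct.tmul_pow]]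
    exact h
  let E := SymmetricAlgebra.equivMvPolynomial (Pi.basisFun k (Fin n))
  refine (injective_iff_map_eq_zero _).2 fun z hz => ?_
  obtain ⟨P, rfl⟩ := E.symm.surjective z
  have h1 : MvPolynomial.aeval u P = 0 := by
    rw [← hz]
    refine congrArg (fun f : MvPolynomial (Fin n) k →ₐ[k] A => f P)
      (MvPolynomial.algHom_ext (f := MvPolynomial.aeval u)
        (g := (toVec u hu : SymmetricAlgebra k (Fin n → k) →ₐ[k] A).comp E.symm.toAlgHom) fun i => ?_)
    simp [E, toVec_ι, Pi.basisFun_apply]
  have h2 : MvPolynomial.aeval uK (MvPolynomial.map (algebraMap k K) P) = 0 := by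
    rw [MvPolynomial.aeval_map_algebraMap]
    have h3 : (MvPolynomial.aeval uK : MvPolynomial (Fin n) k →ₐ[k] K ⊗[k] A) =
        (Algebra.TensorProduct.includeRight : A →ₐ[k] K ⊗[k] A).comp (MvPolynomial.aeval u) :=
      MvPolynomial.algHom_ext fun i => by simp [uK]
    rw [h3, AlgHom.comp_apply, h1, map_zero]
  have h4 := eq_zero_of_relation (p := p) (fun i => mk_mem_primSub (hu i)) hindK h2
  rw [MvPolynomial.map_injective _ (algebraMap k K).injective (h4.trans (map_zero _).symm), map_zero]

end

end Groth.Agent.H66.Vec
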