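import Groth.Agent.H66.Vec.Split
import Groth.Agent.Lib.OT67.OpenPart
import Mathlib

/-! Vector subgroups of groups of exponent `p` are direct factors. -/

set_option autoImplicit false
set_option linter.unusedSectionVars false
set_option linter.style.haveILetI false
universe u

namespace Groth.Agent.H66.Vec

open TensorProduct WithConv Groth.Agent.H66.MultExt Groth.Agent.Lib.WittU Reg

noncomputable section

variable {k : Type u} [Field k] {A : Type u} [CommRing A] [HopfAlgebra k A] [Algebra.FiniteType k A]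
  [Coalgebra.IsCocomm k A] {p : ℕ} [hp : Fact p.Prime] [CharP k p]

/-- A primitive element lies in any Frobenius-stable space containing free primitive generators. -/
theorem mem_of_powIndep_gen [Infinite k] [Algebra.FormallySmooth k A] {S : Submodule k A}
    (hS : ∀ a ∈ S, ∀ m : ℕ, a ^ p ^ m ∈ S) {n : ℕ} {g : Fin n → A} (hg : IsGenIn S g)
    (hgp : ∀ i, g i ∈ primSub k A) (hind : PowIndep p k g) {w : A} (hw : w ∈ primSub k A) : w ∈ S := by
  classical
  have hbij : Function.Bijective (toVec g hgp) := ⟨toVec_injective hgp hind, fun a => by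
    have ha : a ∈ (toVec g hgp : SymmetricAlgebra k (Fin n → k) →ₐ[k] A).range := by
      rw [range_toVec, hg.2]
      exact Algebra.mem_top
    exact ha⟩
  obtain ⟨z, rfl⟩ := hbij.2 w
  have hz : z ∈ primSub k (SymmetricAlgebra k (Fin n → k)) := of_map_mem _ hbij.1 hw
  let E := SymmetricAlgebra.equivMvPolynomial (Pi.basisFun k (Fin n))
  obtain ⟨P, rfl⟩ := E.symm.surjective z
  let pt : (Fin n → k) → Pt k (SymmetricAlgebra k (Fin n → k)) k := fun v =>
    toConv ((MvPolynomial.aeval v).comp E.toAlgHom)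
  have hι : ∀ (v : Fin n → k) i, (pt v).ofConv (SymmetricAlgebra.ι k (Fin n → k) (Pi.single i 1)) = v i := by
    intro v i
    show MvPolynomial.aeval v (E _) = v i
    rw [show E (SymmetricAlgebra.ι k _ (Pi.single i 1)) = MvPolynomial.X i by
      rw [← Pi.basisFun_apply]; exact SymmetricAlgebra.equivMvPolynomial_ι_apply _ i]
    exact MvPolynomial.aeval_X v i
  have hadd : ∀ v w : Fin n → k, MvPolynomial.eval (v + w) P = MvPolynomial.eval v P + MvPolynomial.eval w P := by
    intro v w
    have hmul : pt v * pt w = pt (v + w) := by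
      refine WithConv.ofConv_injective (SymmetricAlgebra.algHom_ext ((Pi.basisFun k (Fin n)).ext fun i => ?_))
      show (pt v * pt w).ofConv (SymmetricAlgebra.ι k _ (Pi.basisFun k (Fin n) i)) = (pt (v + w)).ofConv _
      rw [Pi.basisFun_apply, AlgHom.convMul_apply]
      erw [SymmetricAlgebra.comul_ι (R := k)]
      simp [hι]
    have h1 := congrArg (fun x : Pt k (SymmetricAlgebra k (Fin n → k)) k => x.ofConv (E.symm P)) hmul
    rw [AlgHom.convMul_apply, mem_primSub.1 hz] at h1
    simpa [pt, MvPolynomial.aeval_eq_eval] using h1.symm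
  let Ri : Fin n → (k →+ k) := fun i => AddMonoidHom.mk' (fun t => MvPolynomial.eval (Pi.single i t) P)
    fun s t => by rw [Pi.single_add, hadd]
  have hreg : ∀ i, IsReg (Ri i : k → k) := fun i =>
    (isReg_pi_iff.2 ⟨P, fun _ => rfl⟩ : IsReg fun v : Fin n → k => MvPolynomial.eval v P).comp
      (isRegMap_pi.2 fun j => by
        by_cases h : j = i
        · subst h; simpa using (isReg_id' (k := k))
        · simpa [h] using isReg_const (X := k) (0 : k))
  choose D b hb using fun i => Homs.exists_pPoly (p := p) (Ri i) (hreg i)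
  have hP : P = ∑ i, ∑ l ∈ Finset.range (D i), b i l • MvPolynomial.X i ^ p ^ l := by
    refine MvPolynomial.funext fun v => ?_
    let Rhom : (Fin n → k) →+ k := AddMonoidHom.mk' (fun v => MvPolynomial.eval v P) hadd
    calc MvPolynomial.eval v P = Rhom (∑ i, Pi.single i (v i)) := by rw [Finset.univ_sum_single]; rfl
      _ = ∑ i, Ri i (v i) := map_sum Rhom _ _
      _ = _ := by simp [hb]
  rw [hP, map_sum, map_sum]
  refine Submodule.sum_mem _ fun i _ => ?_
  rw [map_sum, map_sum]
  refine Submodule.sum_mem _ fun l _ => ?_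
  rw [map_smul, map_smul]
  refine Submodule.smul_mem _ _ ?_
  rw [map_pow, map_pow]
  have hX : E.symm (MvPolynomial.X i) = SymmetricAlgebra.ι k (Fin n → k) (Pi.single i 1) := by
    rw [E.symm_apply_eq, ← Pi.basisFun_apply]
    exact (SymmetricAlgebra.equivMvPolynomial_ι_apply _ i).symm
  rw [hX, toVec_ι]
  exact hS _ (hg.1 i) l

/-- **Primitive functions extend.** -/
theorem exists_prim_lift [Algebra.FormallySmooth k A] (htor : IsPTorsion p k A) {V : Type u} [CommRing V]
    [HopfAlgebra k V] [Algebra.FiniteType k V] [Coalgebra.IsCocomm k V] [Algebra.FormallySmooth k V]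
    (hV : ∀ e : V, IsIdempotentElem e → e = 0 ∨ e = 1) (g : A →ₐc[k] V) (hg : Function.Surjective g)
    {x : V} (hx : x ∈ primSub k V) : ∃ a ∈ primSub k A, g a = x := by
  classical
  let K := AlgebraicClosure k
  haveI : CharP K p := charP_of_injective_algebraMap (algebraMap k K).injective p
  haveI : IsReduced (K ⊗[k] V) := isReduced_baseChange K
  haveI : Algebra.FormallySmooth K (K ⊗[k] V) := inferInstance
  haveI : IsDomain (K ⊗[k] V) := isDomain_baseChange hV K
  let W : Submodule k V := (primSub k A).map (g : A →ₐ[k] V).toLinearMap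
  let S : Submodule K (K ⊗[k] V) := Submodule.span K ((fun v : V => (1 : K) ⊗ₜ[k] v) '' (W : Set V))
  have hSP : S ≤ primSub K (K ⊗[k] V) := Submodule.span_le.2 (by
    rintro _ ⟨_, ⟨a, ha, rfl⟩, rfl⟩
    exact mk_mem_primSub (map_mem g ha))
  have hS : ∀ s ∈ S, ∀ m : ℕ, s ^ p ^ m ∈ S := by
    intro s hs m
    induction hs using Submodule.span_induction with
    | mem y hy =>
      obtain ⟨_, ⟨a, ha, rfl⟩, rfl⟩ := hy
      refine Submodule.subset_span ⟨g a ^ p ^ m, ⟨a ^ p ^ m, pow_mem ha m, map_pow g a _⟩, ?_⟩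
      simp [Algebra.TensorProduct.tmul_pow]
    | zero => rw [zero_pow (pow_ne_zero _ hp.out.ne_zero)]; exact zero_mem _
    | add y z _ _ hy hz =>
      haveI : CharP (K ⊗[k] V) p := charP_of_injective_algebraMap (algebraMap K (K ⊗[k] V)).injective p
      rw [add_pow_char_pow]
      exact add_mem hy hz
    | smul c y _ hy => rw [smul_pow]; exact Submodule.smul_mem _ _ hy
  have hgen : ∃ n, ∃ u : Fin n → K ⊗[k] V, IsGenIn S u := by
    obtain ⟨n, u, hu, htop⟩ := exists_generators (adjoin_primSub_eq_top htor)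
    refine ⟨n, fun i => (1 : K) ⊗ₜ[k] g (u i),
      fun i => Submodule.subset_span ⟨g (u i), ⟨u i, hu i, rfl⟩, rfl⟩, ?_⟩
    rw [Algebra.eq_top_iff]
    intro z
    induction z using TensorProduct.induction_on with
    | zero => exact zero_mem _
    | add a b ha hb => exact add_mem ha hb
    | tmul c v =>
      obtain ⟨a, rfl⟩ := hg v
      rw [show c ⊗ₜ[k] g a = c • ((1 : K) ⊗ₜ[k] g a) by rw [TensorProduct.smul_tmul', smul_eq_mul, mul_one]]
      refine Subalgebra.smul_mem _ ?_ c
      have ha : a ∈ Algebra.adjoin k (Set.range u) := htop ▸ Algebra.mem_top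
      induction ha using Algebra.adjoin_induction with
      | mem y hy => obtain ⟨i, rfl⟩ := hy; exact Algebra.subset_adjoin ⟨i, rfl⟩
      | algebraMap r =>
        rw [show g (algebraMap k A r) = algebraMap k V r from (g : A →ₐ[k] V).commutes r,
          Algebra.algebraMap_eq_smul_one, TensorProduct.tmul_smul, ← algebraMap_smul K r]
        exact Subalgebra.smul_mem _ (one_mem _) _
      | add y z _ _ hy hz => rw [map_add, TensorProduct.tmul_add]; exact add_mem hy hz
      | mul y z _ _ hy hz =>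
        rw [map_mul, show (1 : K) ⊗ₜ[k] (g y * g z) = ((1 : K) ⊗ₜ[k] g y) * ((1 : K) ⊗ₜ[k] g z) by
          rw [Algebra.TensorProduct.tmul_mul_tmul, mul_one]]
        exact mul_mem hy hz
  obtain ⟨n, v, hv, hind⟩ := exists_powIndep_gen (p := p) (k := K) (A := K ⊗[k] V)
    (fun e he => IsIdempotentElem.iff_eq_zero_or_one.1 he) hSP hS hgen
  have hxS : (1 : K) ⊗ₜ[k] x ∈ S :=
    mem_of_powIndep_gen (p := p) hS hv (fun i => hSP (hv.1 i)) hind (mk_mem_primSub hx)
  by_contra hne
  have hx' : x ∉ W := fun ⟨a, ha, h⟩ => hne ⟨a, ha, h⟩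
  have h0 : S ≤ LinearMap.ker (W.mkQ.baseChange K) := Submodule.span_le.2 (by
    rintro _ ⟨w, hw, rfl⟩
    show W.mkQ.baseChange K ((1 : K) ⊗ₜ[k] w) = 0
    rw [LinearMap.baseChange_tmul, Submodule.mkQ_apply, (Submodule.Quotient.mk_eq_zero W).2 hw, TensorProduct.tmul_zero])
  have h1 : (1 : K) ⊗ₜ[k] W.mkQ x = 0 := h0 hxS
  refine hx' ((Submodule.Quotient.mk_eq_zero W).1 ?_)
  exact (Module.FaithfullyFlat.one_tmul_eq_zero_iff k (V ⧸ W) (A := K) (W.mkQ x)).1 h1

theorem ofConv_mul_prim {R : Type u} [CommRing R] [Algebra k R] (x y : Pt k A R) {a : A} (ha : a ∈ primSub k A) :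
    (x * y).ofConv a = x.ofConv a + y.ofConv a := by
  rw [AlgHom.convMul_apply, mem_primSub.1 ha]
  simp

theorem isHopfIdeal_span_prim {T : Set A} (hT : ∀ a ∈ T, a ∈ primSub k A) : (Ideal.span T).IsHopfIdeal k := by
  classical
  let I := Ideal.span T
  let q : A →ₐ[k] A ⧸ I := Ideal.Quotient.mkₐ k I
  let F : A →ₐ[k] (A ⧸ I) ⊗[k] (A ⧸ I) := (Algebra.TensorProduct.map q q).comp (Bialgebra.comulAlgHom k A)
  have hq : ∀ a ∈ T, q a = 0 := fun a ha => Ideal.Quotient.eq_zero_iff_mem.2 (Ideal.subset_span ha)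
  have hF : I ≤ RingHom.ker F := Ideal.span_le.2 fun a ha => RingHom.mem_ker.2 (by
    show Algebra.TensorProduct.map q q (CoalgebraStruct.comul (R := k) a) = 0
    rw [mem_primSub.1 (hT a ha)]
    simp [hq a ha])
  have hε : I ≤ RingHom.ker (Bialgebra.counitAlgHom k A) := Ideal.span_le.2 fun a ha =>
    RingHom.mem_ker.2 (counit_eq_zero (hT a ha))
  have hS : I ≤ RingHom.ker (q.comp (HopfAlgebra.antipodeAlgHom k A)) := Ideal.span_le.2 fun a ha => RingHom.mem_ker.2 (by
    show q (HopfAlgebra.antipodeAlgHom k A a) = 0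
    have h1 := HopfAlgebra.mul_antipode_rTensor_comul_apply (R := k) a
    rw [mem_primSub.1 (hT a ha), counit_eq_zero (hT a ha), map_zero] at h1
    simp [HopfAlgebra.antipode_one] at h1
    rw [HopfAlgebra.antipodeAlgHom_apply, eq_neg_of_add_eq_zero_left h1, map_neg, hq a ha, neg_zero])
  exact
    { counit_eq_zero := fun x hx => (hε hx : Bialgebra.counitAlgHom k A x = 0)
      map_mkQ_comul_eq_zero := fun x hx => by
        have h := RingHom.mem_ker.1 (hF hx)
        have key : ∀ z : A ⊗[k] A, TensorProduct.map (Submodule.restrictScalars k I).mkQ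
            (Submodule.restrictScalars k I).mkQ z = Algebra.TensorProduct.map q q z := by
          intro z
          induction z using TensorProduct.induction_on with
          | zero => rw [map_zero, map_zero]; rfl
          | add p q hp hq => rw [map_add, map_add, hp, hq]; rfl
          | tmul p q => rfl
        exact (key _).trans h
      antipode_mem := fun x hx => Ideal.Quotient.eq_zero_iff_mem.1 (RingHom.mem_ker.1 (hS hx)) }

/-- **A retraction onto a vector subgroup, and the complement.** -/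
theorem exists_retraction_complement [Algebra.FormallySmooth k A] (htor : IsPTorsion p k A) {n : ℕ}
    (g : A →ₐc[k] SymmetricAlgebra k (Fin n → k)) (hg : Function.Surjective g) :
    ∃ (s : SymmetricAlgebra k (Fin n → k) →ₐc[k] A) (I : Ideal A) (_ : I.IsHopfIdeal k)
      (φ : A ⧸ I →ₐ[k] A),
      g.comp s = BialgHom.id k _ ∧
      pre s (toConv (Ideal.Quotient.mkₐ k I) : Pt k A (A ⧸ I)) = 1 ∧
      toConv (φ.comp (Ideal.Quotient.mkₐ k I)) =
        (toConv (AlgHom.id k A) : Pt k A A) *
          (toConv ((s : SymmetricAlgebra k (Fin n → k) →ₐ[k] A).comp (g : A →ₐ[k] SymmetricAlgebra k (Fin n → k))))⁻¹ := by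
  classical
  let V := SymmetricAlgebra k (Fin n → k)
  let E := SymmetricAlgebra.equivMvPolynomial (Pi.basisFun k (Fin n))
  haveI : IsDomain V := E.toMulEquiv.isDomain (MvPolynomial (Fin n) k)
  haveI : Algebra.FiniteType k V := Algebra.FiniteType.equiv inferInstance E.symm
  haveI : Algebra.FormallySmooth k V := Algebra.FormallySmooth.of_equiv E.symm
  haveI : Coalgebra.IsCocomm k V := by
    refine ⟨LinearMap.ext fun v => ?_⟩
    have h : ((Algebra.TensorProduct.comm k V V : V ⊗[k] V →ₐ[k] V ⊗[k] V)).comp (Bialgebra.comulAlgHom k V) =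
        Bialgebra.comulAlgHom k V := SymmetricAlgebra.algHom_ext (LinearMap.ext fun x => by
      simp only [LinearMap.comp_apply, AlgHom.toLinearMap_apply, AlgHom.comp_apply]
      have hc : Bialgebra.comulAlgHom k V (SymmetricAlgebra.ι k (Fin n → k) x) = SymmetricAlgebra.ι k (Fin n → k) x ⊗ₜ[k] (1 : V) +
          (1 : V) ⊗ₜ[k] SymmetricAlgebra.ι k (Fin n → k) x := SymmetricAlgebra.comul_ι k (Fin n → k) x
      simp [hc, add_comm])
    exact DFunLike.congr_fun h v
  have hxi : ∀ i, SymmetricAlgebra.ι k (Fin n → k) (Pi.single i 1) ∈ primSub k V := fun i =>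
    mem_primSub.2 (SymmetricAlgebra.comul_ι k (Fin n → k) _)
  choose a ha hga using fun i => exists_prim_lift htor
    (fun e he => IsIdempotentElem.iff_eq_zero_or_one.1 he) g hg (hxi i)
  let s := toVec a ha
  have hgs : g.comp s = BialgHom.id k V := BialgHom.coe_algHom_injective
    (SymmetricAlgebra.algHom_ext ((Pi.basisFun k (Fin n)).ext fun i => by
      show g (s (SymmetricAlgebra.ι k (Fin n → k) (Pi.basisFun k (Fin n) i))) =
        SymmetricAlgebra.ι k (Fin n → k) (Pi.basisFun k (Fin n) i)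
      rw [Pi.basisFun_apply, toVec_ι, hga]))
  haveI hI : (Ideal.span (Set.range a)).IsHopfIdeal k :=
    isHopfIdeal_span_prim (by rintro _ ⟨i, rfl⟩; exact ha i)
  let x : Pt k A A := toConv ((s : V →ₐ[k] A).comp (g : A →ₐ[k] V))
  let y : Pt k A A := toConv (AlgHom.id k A) * x⁻¹
  have hkill : Ideal.span (Set.range a) ≤ RingHom.ker y.ofConv := Ideal.span_le.2 (by
    rintro _ ⟨i, rfl⟩
    have h1 := ofConv_mul_prim x x⁻¹ (ha i)
    rw [mul_inv_cancel] at h1
    have h2 : x.ofConv (a i) = a i := by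
      show s (g (a i)) = a i
      rw [hga, toVec_ι]
    have h3 : (1 : Pt k A A).ofConv (a i) = 0 := by
      show algebraMap k A (CoalgebraStruct.counit (R := k) (a i)) = 0
      rw [counit_eq_zero (ha i), map_zero]
    rw [h3, h2] at h1
    refine RingHom.mem_ker.2 ?_
    rw [ofConv_mul_prim _ _ (ha i)]
    exact h1.symm)
  refine ⟨s, Ideal.span (Set.range a), hI, Ideal.Quotient.liftₐ _ y.ofConv hkill, hgs, ?_, ?_⟩
  · refine WithConv.ofConv_injective (SymmetricAlgebra.algHom_ext ((Pi.basisFun k (Fin n)).ext fun i => ?_))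
    show Ideal.Quotient.mk _ (s (SymmetricAlgebra.ι k (Fin n → k) (Pi.basisFun k (Fin n) i))) =
      algebraMap k _ (CoalgebraStruct.counit (R := k) (SymmetricAlgebra.ι k (Fin n → k) (Pi.basisFun k (Fin n) i)))
    rw [Pi.basisFun_apply, toVec_ι, counit_eq_zero (hxi i), map_zero]
    exact Ideal.Quotient.eq_zero_iff_mem.2 (Ideal.subset_span ⟨i, rfl⟩)
  · exact WithConv.ofConv_injective (AlgHom.ext fun _ => rfl)

end

end Groth.Agent.H66.Vec
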